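import Cfsg.Agent.Lib.Golay.Stabilizers

/-!
# The pointwise stabiliser of an octad is its own centraliser in the stabiliser of the octad
-/

set_option autoImplicit false

namespace Cfsg.Agent.Lib.MathieuBlocks.OctadCentralizer

open Cfsg Cfsg.Agent.Lib.Golay
open scoped Pointwise

/-- Closure steps from the sixteen points outside the base octad. -/
def complSteps : List (ℕ × List ℕ) :=
  [(0, [15777, 39257]), (1, [69395]), (2, [36294]), (3, [5279]), (5, [10558]), (14, [18147]),
    (17, [133817]), (23, [])]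

/-- The sixteen points outside the base octad. -/
def complMask : ℕ := (2 ^ 24 - 1) ^^^ 8536111

theorem complSteps_ok : closureOk complMask complSteps = true := by decide +kernel

theorem complMask_spec : ∀ p ∈ setOfMask complMask, p ∉ baseOctad := by decide +kernel

theorem eq_one_of_fix_compl {o : Finset GolayPt} (ho : o ∈ octads) {g : Equiv.Perm GolayPt}
    (hg : g ∈ M24) (h : ∀ p, p ∉ o → g p = p) : g = 1 := by
  obtain ⟨a, ha, hao⟩ := transitive_octads baseOctad_mem ho
  have h1 : a⁻¹ * g * a = 1 := fixed_closure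
    (Subgroup.mul_mem _ (Subgroup.mul_mem _ (Subgroup.inv_mem _ ha) hg) ha) complSteps complMask
    complSteps_ok fun p hp => by
      have hap : a p ∉ o := by
        rw [← hao, ← Equiv.Perm.smul_def, Finset.smul_mem_smul_finset_iff]
        exact complMask_spec p hp
      rw [Equiv.Perm.mul_apply, Equiv.Perm.mul_apply, h _ hap, Equiv.Perm.inv_def,
        Equiv.symm_apply_apply]
  calc g = a * (a⁻¹ * g * a) * a⁻¹ := by group
    _ = 1 := by rw [h1]; group

theorem exists_octadFix_base {z : GolayPt} (hz : z ∉ baseOctad) :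
    ∃ g ∈ octadFix baseOctad, g basePt7 = z := by
  obtain ⟨c, hc, h6, h7⟩ := fiveFixers_complete _ basePt6_mem.1 z hz basePt6_mem.2
  have hspec := List.all_eq_true.mp fiveFixers_spec c hc
  simp only [Bool.and_eq_true] at hspec
  have hok := okCode_of_inM24 hspec.1
  refine ⟨gperm c, mem_octadFix.mpr ⟨gperm_mem_M24 hspec.1, fun p hp => ?_⟩, ?_⟩
  · rw [gperm_apply hok]; exact (baseOctad_fixed_iff c hc).mp h6 p hp
  · rw [gperm_apply hok, h7]

/-- The pointwise stabiliser of an octad is transitive outside it. -/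
theorem exists_octadFix_map {o : Finset GolayPt} (ho : o ∈ octads) {p q : GolayPt} (hp : p ∉ o)
    (hq : q ∉ o) : ∃ g ∈ octadFix o, g p = q := by
  obtain ⟨a, ha, hao⟩ := transitive_octads baseOctad_mem ho
  have hback : ∀ r, r ∉ o → a⁻¹ r ∉ baseOctad := fun r hr hm => by
    apply hr
    rw [← hao]
    exact Finset.mem_smul_finset.mpr ⟨_, hm, a.apply_symm_apply r⟩
  obtain ⟨g, hg, hgp⟩ := exists_octadFix_base (hback p hp)
  obtain ⟨g', hg', hgq⟩ := exists_octadFix_base (hback q hq)
  refine ⟨a * (g' * g⁻¹) * a⁻¹, ?_, ?_⟩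
  · rw [octadFix_conj ha hao]
    exact ⟨g' * g⁻¹, mul_mem hg' (inv_mem hg), rfl⟩
  · have hgi : g⁻¹ (a⁻¹ p) = basePt7 := by
      rw [← hgp, Equiv.Perm.inv_def g, Equiv.symm_apply_apply]
    simp only [Equiv.Perm.mul_apply, hgi, hgq]
    exact a.apply_symm_apply q

/-- An element of the stabiliser of an octad centralising its pointwise stabiliser belongs
to it. -/
theorem mem_octadFix_of_commute {o : Finset GolayPt} (ho : o ∈ octads) {a : Equiv.Perm GolayPt}
    (ha : a ∈ M24) (hao : a • o = o) (hc : ∀ g ∈ octadFix o, a * g = g * a) :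
    a ∈ octadFix o := by
  have hiff : ∀ p, a p ∈ o ↔ p ∈ o := fun p => by
    conv_lhs => rw [← hao, ← Equiv.Perm.smul_def]
    exact Finset.smul_mem_smul_finset_iff a
  obtain ⟨p₀, hp₀⟩ : ∃ p, p ∉ o := by
    by_contra h
    push Not at h
    have := ho.2
    rw [Finset.eq_univ_of_forall h, Finset.card_univ, card_golayPt] at this
    norm_num at this
  obtain ⟨g, hg, hgp⟩ := exists_octadFix_map ho hp₀ (fun h => hp₀ ((hiff p₀).mp h))
  have habel : ∀ x ∈ octadFix o, g * x = x * g := fun x hx => by
    have h1 := (octadFix_spec ho).2 _ hg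
    have h2 := (octadFix_spec ho).2 _ hx
    have h3 := (octadFix_spec ho).2 _ (mul_mem hg hx)
    calc g * x = g * x * (g * (x * x) * g) := by rw [h2, mul_one, h1, mul_one]
      _ = (g * x * (g * x)) * (x * g) := by group
      _ = x * g := by rw [h3, one_mul]
  have h1 : g⁻¹ * a = 1 := eq_one_of_fix_compl ho
    (mul_mem (inv_mem (mem_octadFix.mp hg).1) ha) fun p hp => by
    obtain ⟨x, hx, rfl⟩ := exists_octadFix_map ho hp₀ hp
    rw [Equiv.Perm.mul_apply, ← Equiv.Perm.mul_apply a x, hc x hx, Equiv.Perm.mul_apply, ← hgp,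
      ← Equiv.Perm.mul_apply x g, ← habel x hx, Equiv.Perm.mul_apply, Equiv.Perm.inv_def,
      Equiv.symm_apply_apply]
  rw [← inv_mul_eq_one.mp h1]
  exact hg

end Cfsg.Agent.Lib.MathieuBlocks.OctadCentralizer
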