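import Cfsg.Agent.Lib.GaloisMean.Basic
import Cfsg.Agent.Lib.Characters.Basic
import Cfsg.Agent.Lib.BrauerMap.ClassSum

/-!
# Character values on classes of elements of prime order
-/

set_option autoImplicit false

namespace Cfsg.Agent.Lib.MathieuBlocks.Values

open Cfsg.Agent.Lib.Characters.Basic
open scoped ComplexConjugate

universe u

variable {G : Type u} [Group G]

/-- A rational algebraic integer is an integer. -/
theorem exists_int_of_rat {z : ℂ} (hz : IsIntegral ℤ z) (q : ℚ) (hq : (q : ℂ) = z) :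
    ∃ m : ℤ, (m : ℂ) = z := by
  have hq' : algebraMap ℚ ℂ q = z := by rw [eq_ratCast]; exact hq
  have h2 : IsIntegral ℤ q := by
    rw [← isIntegral_algebraMap_iff (algebraMap ℚ ℂ).injective, hq']
    exact hz
  obtain ⟨m, hm⟩ := IsIntegrallyClosed.isIntegral_iff.1 h2
  refine ⟨m, ?_⟩
  rw [← hq, ← hm]
  simp

/-- A step of conjugacy between powers iterates. -/
theorem isConj_pow_iterate {x : G} {m : ℕ} (h : IsConj x (x ^ m)) :
    ∀ i, IsConj x (x ^ m ^ i)
  | 0 => by simpa using IsConj.refl x
  | i + 1 => by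
    refine h.trans ?_
    obtain ⟨c, hc⟩ := isConj_iff.mp (isConj_pow_iterate h i)
    exact isConj_iff.mpr ⟨c, by rw [← conj_pow, hc, ← pow_mul, pow_succ]⟩

theorem isConj_pow_pow {a b : G} (h : IsConj a b) (k : ℕ) : IsConj (a ^ k) (b ^ k) := by
  obtain ⟨c, rfl⟩ := isConj_iff.mp h
  exact isConj_iff.mpr ⟨c, conj_pow.symm⟩

theorem orderOf_eq_of_isConj {a b : G} (h : IsConj a b) : orderOf a = orderOf b := by
  obtain ⟨c, rfl⟩ := isConj_iff.mp h
  exact (MulEquiv.orderOf_eq (MulAut.conj c) a).symm

/-- Every non-trivial power is conjugate to the element or to its inverse. -/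
def Covered (x : G) (q : ℕ) : Prop :=
  ∀ k : ℕ, ¬ q ∣ k → IsConj x (x ^ k) ∨ IsConj x⁻¹ (x ^ k)

theorem covered_of_step {x : G} {q m : ℕ} (hq0 : 0 < q) (hq : orderOf x = q) (h : IsConj x (x ^ m))
    (hcov : ∀ k < q, k ≠ 0 → ∃ i < q, m ^ i % q = k ∨ (q - 1) * m ^ i % q = k) :
    Covered x q := by
  intro k hk
  obtain ⟨i, -, hi⟩ := hcov (k % q) (Nat.mod_lt _ hq0) (fun e => hk (Nat.dvd_of_mod_eq_zero e))
  have hmod : ∀ a, a % q = k % q → x ^ a = x ^ k := fun a ha => by
    rw [← pow_mod_orderOf, hq, ha, ← hq, pow_mod_orderOf]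
  rcases hi with hi | hi
  · left
    rw [← hmod _ hi]
    exact isConj_pow_iterate h i
  · right
    rw [← hmod _ hi, mul_comm, pow_mul]
    have hinv : x⁻¹ = x ^ (q - 1) := by
      rw [inv_eq_of_mul_eq_one_right (b := x ^ (q - 1))]
      rw [← pow_succ', Nat.sub_add_cancel hq0, ← hq, pow_orderOf_eq_one]
    rw [hinv]
    exact isConj_pow_pow (isConj_pow_iterate h i) _

variable [Fintype G]

open scoped Classical in
/-- The union of the class of `x` and of the class of its inverse. -/
noncomputable def pmClass (x : G) : Finset G :=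
  Finset.univ.filter fun g => IsConj x g ∨ IsConj x⁻¹ g

theorem mem_pmClass {x g : G} : g ∈ pmClass x ↔ IsConj x g ∨ IsConj x⁻¹ g := by
  classical
  simp [pmClass]

open scoped Classical in
theorem card_class (x : G) : (Finset.univ.filter fun g => IsConj x g).card =
    (Subgroup.centralizer ({x} : Set G)).index := by
  rw [← Cfsg.Agent.Lib.BrauerMap.ClassSum.card_isConj, Nat.card_eq_fintype_card,
    Fintype.card_subtype]

theorem orderOf_of_mem_pmClass {x g : G} (h : g ∈ pmClass x) : orderOf g = orderOf x := by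
  rcases mem_pmClass.mp h with h | h
  · exact (orderOf_eq_of_isConj h).symm
  · rw [← orderOf_eq_of_isConj h, orderOf_inv]

theorem disjoint_pmClass {x y : G} (h : orderOf x ≠ orderOf y) :
    Disjoint (pmClass x) (pmClass y) :=
  Finset.disjoint_left.mpr fun _ ha hb =>
    h ((orderOf_of_mem_pmClass ha).symm.trans (orderOf_of_mem_pmClass hb))

theorem card_pmClass_of_isConj {x : G} (h : IsConj x x⁻¹) :
    (pmClass x).card = (Subgroup.centralizer ({x} : Set G)).index := by
  classical
  rw [← card_class]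
  refine congrArg Finset.card (Finset.ext fun g => ?_)
  simp only [mem_pmClass, Finset.mem_filter, Finset.mem_univ, true_and]
  exact ⟨fun hg => hg.elim id h.trans, Or.inl⟩

theorem index_centralizer_inv (x : G) :
    (Subgroup.centralizer ({x⁻¹} : Set G)).index = (Subgroup.centralizer ({x} : Set G)).index := by
  congr 1
  ext a
  simp only [Subgroup.mem_centralizer_singleton_iff]
  exact ⟨fun h => (show Commute a x by simpa using Commute.inv_right (show Commute a x⁻¹ from h)).eq,
    fun h => Commute.inv_right h⟩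

theorem card_pmClass_of_not_isConj {x : G} (h : ¬ IsConj x x⁻¹) :
    (pmClass x).card = 2 * (Subgroup.centralizer ({x} : Set G)).index := by
  classical
  rw [two_mul, ← card_class]
  nth_rw 2 [card_class]
  rw [← index_centralizer_inv, ← card_class x⁻¹, ← Finset.card_union_of_disjoint]
  · refine congrArg Finset.card (Finset.ext fun g => ?_)
    simp [mem_pmClass]
  · rw [Finset.disjoint_filter]
    exact fun g _ hg hg' => h (hg.trans hg'.symm)

/-- The total of a class function over the two classes. -/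
theorem sum_pmClass {x : G} (h : ¬ IsConj x x⁻¹) (f : G → ℂ)
    (hf : ∀ a b, IsConj a b → f a = f b) :
    ∑ g ∈ pmClass x, f g =
      ((Subgroup.centralizer ({x} : Set G)).index : ℂ) * (f x + f x⁻¹) := by
  classical
  rw [show pmClass x = (Finset.univ.filter fun g => IsConj x g) ∪
      (Finset.univ.filter fun g => IsConj x⁻¹ g) from Finset.ext fun g => by simp [mem_pmClass],
    Finset.sum_union (Finset.disjoint_filter.mpr fun g _ hg hg' => h (hg.trans hg'.symm)),
    Finset.sum_congr rfl (g := fun _ => f x) (fun g hg => (hf _ _ (Finset.mem_filter.mp hg).2).symm),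
    Finset.sum_congr rfl (g := fun _ => f x⁻¹)
      (fun g hg => (hf _ _ (Finset.mem_filter.mp hg).2).symm),
    Finset.sum_const, Finset.sum_const, card_class, card_class, index_centralizer_inv,
    nsmul_eq_mul, nsmul_eq_mul]
  ring

/-- Over a cyclic subgroup the values of a character add up to a multiple of its order. -/
theorem exists_sum_pow {χ : G → ℂ} (hχ : Cfsg.IsCharacter G χ) (x : G) :
    ∃ n : ℕ, ∑ i ∈ Finset.range (orderOf x), χ (x ^ i) = (orderOf x : ℂ) * n := by
  classical
  obtain ⟨n, hn⟩ := exists_classInner_nat (isCharacter_comp (Subgroup.zpowers x).subtype hχ)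
    (isCharacter_one (G := Subgroup.zpowers x))
  refine ⟨n, ?_⟩
  have hne : (orderOf x : ℂ) ≠ 0 := Nat.cast_ne_zero.mpr (orderOf_pos x).ne'
  rw [← hn, Cfsg.classInner, Nat.card_zpowers, ← mul_assoc, mul_inv_cancel₀ hne, one_mul]
  rw [← Fin.sum_univ_eq_sum_range (fun i => χ (x ^ i))]
  refine Fintype.sum_equiv (finEquivZPowers (isOfFinOrder_of_finite x)) _ _ fun i => ?_
  simp [finEquivZPowers_apply]

omit [Fintype G] in
theorem apply_eq_of_isConj {χ : G → ℂ} (hχ : Cfsg.IsCharacter G χ) {a b : G} (h : IsConj a b) :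
    χ a = χ b :=
  classFunction_apply_of_isConj (isClassFunction_of_isCharacter hχ) h

/-- A character of degree prime to `q` does not vanish on a covered element of order `q`. -/
theorem ne_zero_of_covered {χ : G → ℂ} (hχ : Cfsg.IsCharacter G χ) {x : G} {q d : ℕ}
    (hq : orderOf x = q) (hc : Covered x q) (hd : χ 1 = d) (hqd : ¬ q ∣ d) {g : G}
    (hg : g ∈ pmClass x) : χ g ≠ 0 := by
  intro h0
  have hconj : χ x⁻¹ = conj (χ x) := apply_inv hχ x
  have hx : χ x = 0 := by
    rcases mem_pmClass.mp hg with h | h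
    · rw [apply_eq_of_isConj hχ h, h0]
    · have : χ x⁻¹ = 0 := by rw [apply_eq_of_isConj hχ h, h0]
      rw [hconj] at this
      simpa using this
  obtain ⟨n, hn⟩ := exists_sum_pow hχ x
  rw [Finset.sum_eq_single 0] at hn
  · rw [pow_zero, hd, hq] at hn
    exact hqd ⟨n, by exact_mod_cast hn⟩
  · intro i hi hi0
    rw [Finset.mem_range, hq] at hi
    rcases hc i (fun h => hi0 (Nat.eq_zero_of_dvd_of_lt h hi)) with h | h
    · rw [← apply_eq_of_isConj hχ h, hx]
    · rw [← apply_eq_of_isConj hχ h, hconj, hx, map_zero]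
  · intro h
    exact absurd (Finset.mem_range.mpr (orderOf_pos x)) h

/-- The squares on the two classes add up to at least their size. -/
theorem card_le_of_covered {χ : G → ℂ} (hχ : Cfsg.IsCharacter G χ) {x : G} {q d : ℕ}
    (hq : orderOf x = q) (hqp : q.Prime) (hc : Covered x q) (hd : χ 1 = d) (hqd : ¬ q ∣ d) :
    ((pmClass x).card : ℝ) ≤ ∑ g ∈ pmClass x, Complex.normSq (χ g) := by
  refine Cfsg.Agent.Lib.BC78.Galois.card_le_sum_normSq hχ (pmClass x) (fun g hg k hk => ?_)
    (fun g hg => ne_zero_of_covered hχ hq hc hd hqd hg)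
  have hqk : ¬ q ∣ k := by
    intro h
    have hqG : q ∣ Nat.card G := hq ▸ orderOf_dvd_natCard x
    have := Nat.dvd_gcd h hqG
    rw [hk] at this
    exact hqp.ne_one (Nat.dvd_one.mp this)
  rcases mem_pmClass.mp hg with h | h
  · rw [mem_pmClass]
    rcases hc k hqk with h' | h'
    · exact Or.inl (h'.trans (isConj_pow_pow h k))
    · exact Or.inr (h'.trans (isConj_pow_pow h k))
  · rw [mem_pmClass]
    have hqk' : ¬ q ∣ (q - 1) * k := by
      rw [hqp.dvd_mul]
      rintro (h' | h')
      · have := Nat.le_of_dvd (Nat.sub_pos_of_lt hqp.one_lt) h'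
        have := hqp.two_le
        omega
      · exact hqk h'
    have hinv : x⁻¹ ^ k = x ^ ((q - 1) * k) := by
      rw [pow_mul, inv_eq_of_mul_eq_one_right (b := x ^ (q - 1))]
      rw [← pow_succ', Nat.sub_add_cancel hqp.one_le, ← hq, pow_orderOf_eq_one]
    have h1 : IsConj (x ^ ((q - 1) * k)) (g ^ k) := hinv ▸ isConj_pow_pow h k
    rcases hc _ hqk' with h' | h'
    · exact Or.inl (h'.trans h1)
    · exact Or.inr (h'.trans h1)

/-- The squares of an irreducible character add up to the group order. -/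
theorem sum_normSq_irr (χ : Cfsg.IrrCharacter G) :
    ∑ g : G, Complex.normSq ((χ : G → ℂ) g) = (Nat.card G : ℝ) := by
  have h := classInner_self_irr χ
  rw [Cfsg.classInner, inv_mul_eq_one₀ (Nat.cast_ne_zero.mpr Nat.card_pos.ne')] at h
  have h2 : ((∑ g : G, Complex.normSq ((χ : G → ℂ) g) : ℝ) : ℂ) = ((Nat.card G : ℝ) : ℂ) := by
    push_cast
    rw [h]
    exact Finset.sum_congr rfl fun g _ => (Complex.mul_conj _).symm
  exact_mod_cast h2

/-- A character other than the principal one has total zero. -/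
theorem sum_irr_eq_zero {χ : Cfsg.IrrCharacter G} (h : χ ≠ oneChar G) :
    ∑ g : G, (χ : G → ℂ) g = 0 := by
  have h1 := classInner_irr_of_ne h
  rw [Cfsg.classInner, mul_eq_zero] at h1
  rcases h1 with h1 | h1
  · simp at h1
  · simpa [oneChar_apply] using h1

end Cfsg.Agent.Lib.MathieuBlocks.Values
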