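import Cfsg.Agent.Lib.FusionAlperin.MathieuInst

/-!
# Kernel-checkable search for the elements of M24 intertwining two given elements

An element `u` with `u x = y u` is determined by the images of one representative in each cycle
of `x`; all candidates are tested against the code.
-/

set_option autoImplicit false

namespace Cfsg.Agent.Lib.MathieuBlocks.Search

open Cfsg Cfsg.Agent.Lib.Computation Cfsg.Agent.Lib.Golay
open Cfsg.Agent.Lib.FusionAlperin.MathieuCert Cfsg.Agent.Lib.FusionAlperin.MathieuInst
open scoped Pointwise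

/-- The code of a permutation of the points. -/
noncomputable def codeOf (u : Equiv.Perm GolayPt) : ℕ := packW 5 (fun i => idx (u (pt i))) 24

theorem getW_codeOf (u : Equiv.Perm GolayPt) {i : ℕ} (hi : i < 24) :
    getW 5 (codeOf u) i = idx (u (pt i)) :=
  getW_packW (fun _ _ => lt_of_lt_of_le (idx_lt _) (by norm_num)) hi

theorem okCode_codeOf (u : Equiv.Perm GolayPt) : okCode (codeOf u) = true :=
  okPerm_of_getW (indexHom.symm u) fun i => by
    rw [getW_codeOf u i.2, ← ptEquiv_symm_apply]
    rfl

theorem gperm_codeOf (u : Equiv.Perm GolayPt) : gperm (codeOf u) = u :=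
  Equiv.ext fun p => idx_injective (by
    rw [idx_gperm (okCode_codeOf u), getW_codeOf u (idx_lt p), pt_idx])

/-- The code sends the twelve rows into the code. -/
def rowsOk (c : ℕ) : Bool := rows.all fun r => inCode (permMask c r)

theorem rowsOk_of_mem {c : ℕ} (hc : okCode c = true) (h : gperm c ∈ M24) : rowsOk c = true := by
  simp only [rowsOk, List.all_eq_true]
  intro r hr
  obtain ⟨k, hk, he⟩ := mem_supports_iff.mp
    (smul_mem_supports h (row_mem_octads hr).1)
  rw [smul_setOfMask hc] at he
  rw [setOfMask_injOn (permMask_lt hc r) (enc_lt hk) he]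
  exact inCode_enc hk

/-- The code of a power. -/
def pwCode (x : ℕ) : ℕ → ℕ
  | 0 => oneCode
  | k + 1 => mulP 24 5 x (pwCode x k)

theorem pwCode_spec {x : ℕ} (hx : okCode x = true) :
    ∀ k, okCode (pwCode x k) = true ∧ gperm (pwCode x k) = gperm x ^ k
  | 0 => ⟨okCode_oneCode, by rw [pwCode, gperm_oneCode, pow_zero]⟩
  | k + 1 => by
    obtain ⟨h1, h2⟩ := pwCode_spec hx k
    exact ⟨okCode_mulP hx h1, by rw [pwCode, gperm_mul hx h1, h2, pow_succ']⟩

/-- The listed powers. -/
def pwList (x q : ℕ) : List ℕ := (List.range q).map (pwCode x)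

/-- The candidate with the listed images of the representatives. -/
def candCode (PY : List ℕ) (pos : List (ℕ × ℕ)) (v : List ℕ) : ℕ :=
  packW 5 (fun i => getW 5 (PY.getD (pos.getD i (0, 0)).2 0) (v.getD (pos.getD i (0, 0)).1 0)) 24

/-- The possible images of the next representative `r`; the points listed in `fixd` stay fixed. -/
def opts (first fixd : List ℕ) (r : ℕ) : List ℕ → List ℕ
  | [] => first
  | _ :: _ => bif fixd.any fun f => Nat.beq r f then [r] else List.range 24

/-- All candidates extending `v` satisfy `ok`. -/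
def search (x y : ℕ) (PY : List ℕ) (pos : List (ℕ × ℕ)) (first fixd : List ℕ)
    (ok : ℕ → Bool) : List ℕ → ℕ → List ℕ → Bool
  | [], _, v => forceNat (candCode PY pos v) ok
  | r :: rs, used, v => (opts first fixd r v).all fun t =>
      used.testBit t || !(Nat.beq (getW 5 x r) r == Nat.beq (getW 5 y t) t) ||
        forceNat (used ||| orbMask PY t) fun used' =>
          search x y PY pos first fixd ok rs used' (v ++ [t])

/-- The consistency of the data, and the search. -/
def certOk (x y q : ℕ) (reps : List ℕ) (pos : List (ℕ × ℕ)) (first fixd : List ℕ)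
    (ok : ℕ → Bool) : Bool :=
  okCode x && okCode y && decide reps.Nodup && (reps.all fun r => Nat.blt r 24) &&
  (first.all fun f => Nat.blt f 24) &&
  ((List.range 24).all fun i =>
    Nat.blt (pos.getD i (0, 0)).1 reps.length && Nat.blt (pos.getD i (0, 0)).2 q &&
    Nat.beq (getW 5 (pwCode x (pos.getD i (0, 0)).2) (reps.getD (pos.getD i (0, 0)).1 0)) i) &&
  (reps.all fun r => reps.all fun r' =>
    Nat.beq r r' || !(orbMask (pwList x q) r).testBit r') &&
  (!Nat.beq (getW 5 x (reps.getD 0 0)) (reps.getD 0 0)) &&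
  ((List.range 24).all fun t => Nat.beq (getW 5 y t) t ||
    first.any fun f => (List.range q).any fun k => Nat.beq (getW 5 (pwCode y k) f) t) &&
  search x y (pwList y q) pos first fixd (fun c => !rowsOk c || ok c) reps 0 []

variable {x y q : ℕ} {reps : List ℕ} {pos : List (ℕ × ℕ)} {first fixd : List ℕ}
  {ok : ℕ → Bool}

theorem testBit_orbMask_pw {c i j : ℕ} :
    (orbMask (pwList c q) i).testBit j = true ↔ ∃ k < q, getW 5 (pwCode c k) i = j := by
  simp [testBit_orbMask, pwList]

theorem pwList_getD {c k : ℕ} (hk : k < q) : (pwList c q).getD k 0 = pwCode c k := by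
  simp [pwList, List.getD_eq_getElem?_getD, hk]

theorem pow_intertwine {G : Type*} [Group G] {u a b : G} (h : u * a = b * u) :
    ∀ k : ℕ, u * a ^ k = b ^ k * u
  | 0 => by simp
  | k + 1 => by
    rw [pow_succ', pow_succ', ← mul_assoc, h, mul_assoc, pow_intertwine h k, ← mul_assoc]

theorem getD_map_idx (u : Equiv.Perm GolayPt) (l : List ℕ) {j : ℕ} (hj : j < l.length) :
    (l.map fun r => idx (u (pt r))).getD j 0 = idx (u (pt (l.getD j 0))) := by
  simp [List.getD_eq_getElem?_getD, hj]

theorem search_sound (hx : okCode x = true) (hy : okCode y = true) (hnd : reps.Nodup)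
    (hlt : ∀ r ∈ reps, r < 24)
    (hpos : ∀ i < 24, (pos.getD i (0, 0)).1 < reps.length ∧ (pos.getD i (0, 0)).2 < q ∧
      getW 5 (pwCode x (pos.getD i (0, 0)).2) (reps.getD (pos.getD i (0, 0)).1 0) = i)
    (horb : ∀ r ∈ reps, ∀ r' ∈ reps, r = r' ∨ (orbMask (pwList x q) r).testBit r' = false)
    {u : Equiv.Perm GolayPt} (hu : ∀ r ∈ fixd, u (pt r) = pt r)
    (hrel : u * gperm x = gperm y * u) (hfirst : idx (u (pt (reps.getD 0 0))) ∈ first) :
    ∀ (rs dn : List ℕ) (used : ℕ), dn ++ rs = reps →
      (∀ t, used.testBit t = true → ∃ r ∈ dn, ∃ k < q, getW 5 (pwCode y k) (idx (u (pt r))) = t) →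
      search x y (pwList y q) pos first fixd ok rs used (dn.map fun r => idx (u (pt r))) = true →
      ok (codeOf u) = true := by
  intro rs
  induction rs with
  | nil =>
    intro dn used he _ h
    rw [List.append_nil] at he
    subst he
    rw [search, forceNat_eq] at h
    convert h using 2
    refine (packW_congr fun i hi => ?_).symm
    obtain ⟨h1, h2, h3⟩ := hpos i hi
    rw [pwList_getD h2, getD_map_idx u dn h1, ← idx_gperm (pwCode_spec hy _).1,
      (pwCode_spec hy _).2, ← Equiv.Perm.mul_apply, ← pow_intertwine hrel,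
      Equiv.Perm.mul_apply, ← (pwCode_spec hx _).2]
    congr 2
    apply idx_injective
    have hr := hlt _ (List.getD_eq_getElem dn 0 h1 ▸ List.getElem_mem h1)
    rw [idx_gperm (pwCode_spec hx _).1, idx_pt hr, h3, idx_pt hi]
  | cons r rs ih =>
    intro dn used he hused h
    have hr : r ∈ reps := he ▸ List.mem_append_right _ List.mem_cons_self
    have hr24 := hlt r hr
    simp only [search, forceNat_eq, List.all_eq_true, Bool.or_eq_true] at h
    have hopt : idx (u (pt r)) ∈ opts first fixd r (dn.map fun r => idx (u (pt r))) := by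
      cases dn with
      | nil =>
        rw [List.nil_append] at he
        subst he
        simpa [opts] using hfirst
      | cons a dn =>
        rw [List.map_cons, opts]
        cases hb : fixd.any fun f => Nat.beq r f with
        | false => exact List.mem_range.mpr (idx_lt _)
        | true =>
          rw [cond_true, List.mem_singleton]
          simp only [List.any_eq_true, Nat.beq_eq] at hb
          obtain ⟨f, hf, rfl⟩ := hb
          rw [hu r hf, idx_pt hr24]
    rcases h _ hopt with (h | h) | h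
    · exfalso
      obtain ⟨r', hr', k, hk, e⟩ := hused _ h
      have hr'm : r' ∈ reps := he ▸ List.mem_append_left _ hr'
      rw [← idx_gperm (pwCode_spec hy k).1, (pwCode_spec hy k).2, ← Equiv.Perm.mul_apply,
        ← pow_intertwine hrel, Equiv.Perm.mul_apply, ← (pwCode_spec hx k).2] at e
      have e2 := congrArg idx (u.injective (idx_injective e))
      rw [idx_gperm (pwCode_spec hx k).1, idx_pt (hlt r' hr'm), idx_pt hr24] at e2
      rcases horb r' hr'm r hr with rfl | h'
      · rw [← he, List.nodup_append] at hnd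
        exact hnd.2.2 _ hr' _ List.mem_cons_self rfl
      · rw [testBit_orbMask_pw.mpr ⟨k, hk, e2⟩] at h'
        simp at h'
    · exfalso
      rw [Bool.not_eq_true', beq_eq_false_iff_ne] at h
      apply h
      rw [Bool.eq_iff_iff, Nat.beq_eq, Nat.beq_eq, ← idx_gperm hy, ← Equiv.Perm.mul_apply,
        ← hrel, Equiv.Perm.mul_apply]
      constructor
      · intro e
        have : gperm x (pt r) = pt r := idx_injective (by rw [idx_gperm hx, idx_pt hr24, e])
        rw [this]
      · intro e
        have := congrArg idx (u.injective (idx_injective e))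
        rwa [idx_gperm hx, idx_pt hr24] at this
    · refine ih (dn ++ [r]) _ (by simpa using he) ?_ (by simpa using h)
      intro t ht
      rw [Nat.testBit_or, Bool.or_eq_true] at ht
      rcases ht with ht | ht
      · obtain ⟨r', hr', k, hk, e⟩ := hused t ht
        exact ⟨r', List.mem_append_left _ hr', k, hk, e⟩
      · obtain ⟨k, hk, e⟩ := testBit_orbMask_pw.mp ht
        exact ⟨r, List.mem_append_right _ (List.mem_singleton_self r), k, hk, e⟩

/-- The outcome of a certificate. -/
theorem cert_spec_gen (h : certOk x y q reps pos first fixd ok = true) (hym : gperm y ∈ M24)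
    (hyf : ∀ r ∈ fixd, gperm y (pt r) = pt r) {u : Equiv.Perm GolayPt} (hu : u ∈ M24)
    (huf : ∀ r ∈ fixd, u (pt r) = pt r) (hrel : u * gperm x = gperm y * u) :
    ∃ k < q, ∃ v : Equiv.Perm GolayPt, u = gperm y ^ k * v ∧ ok (codeOf v) = true := by
  simp only [certOk, Bool.and_eq_true, decide_eq_true_eq, List.all_eq_true, Nat.blt_eq, Nat.beq_eq,
    Bool.or_eq_true, Bool.not_eq_true', List.mem_range, List.any_eq_true] at h
  obtain ⟨⟨⟨⟨⟨⟨⟨⟨⟨hx, hy⟩, hnd⟩, hlt⟩, hflt'⟩, hpos⟩, horb⟩, hmov⟩, hcov⟩, hs⟩ := h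
  have hlen : 0 < reps.length :=
    Nat.zero_lt_of_lt (hpos 0 (by norm_num)).1.1
  have hr0 : reps.getD 0 0 < 24 := hlt _ (List.getD_eq_getElem reps 0 hlen ▸ List.getElem_mem hlen)
  have hmv : getW 5 y (idx (u (pt (reps.getD 0 0)))) ≠ idx (u (pt (reps.getD 0 0))) := by
    intro e
    rw [← idx_gperm hy, ← Equiv.Perm.mul_apply, ← hrel, Equiv.Perm.mul_apply] at e
    have := congrArg idx (u.injective (idx_injective e))
    rw [idx_gperm hx, idx_pt hr0] at this
    rw [← Bool.not_eq_true, Nat.beq_eq] at hmov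
    exact hmov this
  obtain ⟨f, hf, k, hkq, hk⟩ := (hcov _ (idx_lt _)).resolve_left hmv
  have hf24 : f ∈ first := hf
  refine ⟨k, hkq, (gperm y ^ k)⁻¹ * u, by group, ?_⟩
  have hv : (gperm y ^ k)⁻¹ * u ∈ M24 := mul_mem (inv_mem (pow_mem hym k)) hu
  have hvf : ∀ r ∈ fixd, ((gperm y ^ k)⁻¹ * u) (pt r) = pt r := fun r hr => by
    have hst : gperm y ∈ MulAction.stabilizer (Equiv.Perm GolayPt) (pt r) := hyf r hr
    rw [Equiv.Perm.mul_apply, huf r hr]
    exact inv_mem (pow_mem hst k)
  have hvrel : (gperm y ^ k)⁻¹ * u * gperm x = gperm y * ((gperm y ^ k)⁻¹ * u) := by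
    rw [mul_assoc, hrel, ← mul_assoc, ← mul_assoc]
    congr 1
    exact ((Commute.pow_self (gperm y) k).inv_left).eq
  have hfirst : idx (((gperm y ^ k)⁻¹ * u) (pt (reps.getD 0 0))) ∈ first := by
    have hflt := hflt' f hf
    have e : u (pt (reps.getD 0 0)) = (gperm y ^ k) (pt f) := idx_injective (by
      rw [← (pwCode_spec hy k).2, idx_gperm (pwCode_spec hy k).1, idx_pt hflt, hk])
    rw [Equiv.Perm.mul_apply, e, Equiv.Perm.inv_def, Equiv.symm_apply_apply, idx_pt hflt]
    exact hf24
  have hok := search_sound (fixd := fixd) (ok := fun c => !rowsOk c || ok c) hx hy hnd hlt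
    (fun i hi => ⟨(hpos i hi).1.1, (hpos i hi).1.2, (hpos i hi).2⟩) horb hvf hvrel hfirst
    reps [] 0 rfl (fun t ht => by simp at ht) (by simpa using hs)
  rw [rowsOk_of_mem (okCode_codeOf _) (by rw [gperm_codeOf]; exact hv), Bool.not_true,
    Bool.false_or] at hok
  exact hok

theorem fix_M22 {u : Equiv.Perm GolayPt} (hu : u ∈ Spor.M22) :
    ∀ r ∈ [0, 23], u (pt r) = pt r := by
  intro r hr
  simp only [List.mem_cons, List.not_mem_nil, or_false] at hr
  rcases hr with rfl | rfl
  · exact hu.2
  · exact hu.1.2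

/-- The outcome of a certificate inside M22. -/
theorem cert_spec (h : certOk x y q reps pos first [0, 23] ok = true) (hym : gperm y ∈ Spor.M22)
    {u : Equiv.Perm GolayPt} (hu : u ∈ Spor.M22) (hrel : u * gperm x = gperm y * u) :
    ∃ k : ℕ, ∃ v : Equiv.Perm GolayPt, u = gperm y ^ k * v ∧ ok (codeOf v) = true := by
  obtain ⟨k, -, h⟩ := cert_spec_gen h hym.1.1 (fix_M22 hym) hu.1.1 (fix_M22 hu) hrel
  exact ⟨k, h⟩

/-- The centraliser of `x` is the group of its powers. -/
theorem eq_pow_of_cert (h : certOk x x q reps pos first [0, 23] (fun c => Nat.beq c oneCode) = true)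
    (hxm : gperm x ∈ Spor.M22) {u : Equiv.Perm GolayPt} (hu : u ∈ Spor.M22)
    (hrel : u * gperm x = gperm x * u) : ∃ k : ℕ, u = gperm x ^ k := by
  obtain ⟨k, v, hv, hc⟩ := cert_spec h hxm hu hrel
  rw [Nat.beq_eq] at hc
  refine ⟨k, ?_⟩
  rw [hv, ← gperm_codeOf v, hc, gperm_oneCode, mul_one]

/-- At most `q` elements fixing the listed points commute with `x`. -/
theorem exists_pow_of_cert (h : certOk x x q reps pos first fixd (fun c => Nat.beq c oneCode) = true)
    (hxm : gperm x ∈ M24) (hxf : ∀ r ∈ fixd, gperm x (pt r) = pt r)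
    {u : Equiv.Perm GolayPt} (hu : u ∈ M24) (huf : ∀ r ∈ fixd, u (pt r) = pt r)
    (hrel : u * gperm x = gperm x * u) : ∃ k < q, u = gperm x ^ k := by
  obtain ⟨k, hk, v, hv, hc⟩ := cert_spec_gen h hxm hxf hu huf hrel
  rw [Nat.beq_eq] at hc
  refine ⟨k, hk, ?_⟩
  rw [hv, ← gperm_codeOf v, hc, gperm_oneCode, mul_one]

end Cfsg.Agent.Lib.MathieuBlocks.Search
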