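import Cfsg.Agent.Lib.BrauerPairs.Bridge
import Cfsg.Agent.Lib.Blocks.DefectGroup
import Cfsg.Agent.Lib.Blocks.SecondMain
import Cfsg.Agent.Lib.BrauerMap.Nilpotent

/-!
# A criterion for a single p-block

If every element of order p has, in its centraliser, a normal p-subgroup whose centraliser
there is a p-group, and no irreducible degree is divisible by the full p-part of the group
order, then there is only one p-block.
-/

set_option autoImplicit false
set_option linter.style.haveILetI false

namespace Cfsg.Agent.Lib.MathieuBlocks.Criterion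

open MonoidAlgebra Cfsg.Agent.Lib.BrauerMap.Basic Cfsg.Agent.Lib.BrauerMap.ClassSum
open Cfsg.Agent.Lib.Blocks (omegaBar)
open Cfsg.Agent.Lib.BrauerPairs.Center Cfsg.Agent.Lib.BrauerPairs.Trunc
open Cfsg.Agent.Lib.BrauerPairs.Bridge Cfsg.Agent.Lib.BrauerPairs.Principal
open Cfsg.Agent.Lib.BrauerPairs.Pairs
open Cfsg.Agent.Lib.Characters.Basic

attribute [local instance] Ideal.Quotient.field

universe u

variable {G : Type u} [Group G] [Finite G] {p : ℕ} {M : Ideal Cfsg.AlgInt}

/-- A central element supported on regular elements takes its coefficient at one under every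
homomorphism, when a normal p-subgroup has a p-group as centraliser. -/
theorem algHom_eq_coeff_one [Fact p.Prime] {H : Type u} [Group H] [Finite H] {K : Type*} [Field K]
    [CharP K p] {Q : Subgroup H} [Q.Normal] (hQ : IsPGroup p Q)
    (hC : IsPGroup p (Subgroup.centralizer (Q : Set H)))
    (z : Subalgebra.center K (MonoidAlgebra K H))
    (hz : ∀ h : H, p ∣ orderOf h → z.1.coeff h = 0)
    (lam : Subalgebra.center K (MonoidAlgebra K H) →ₐ[K] K) :
    lam z = z.1.coeff 1 := by
  classical
  haveI : Finite (ConjClasses H) := Quotient.finite _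
  haveI := Fintype.ofFinite (ConjClasses H)
  have hsum : z = ∑ c : ConjClasses H, z.1.coeff c.out • classSumC K c.out := by
    refine Subtype.ext ?_
    rw [AddSubmonoidClass.coe_finsetSum]
    exact eq_sum_classSum z.2
  have hout : (ConjClasses.mk (1 : H)).out = 1 := by
    have h : IsConj (ConjClasses.mk (1 : H)).out 1 :=
      ConjClasses.mk_eq_mk_iff_isConj.mp (Quotient.out_eq _)
    exact isConj_one_left.mp h
  conv_lhs => rw [hsum]
  rw [map_sum, Finset.sum_eq_single (ConjClasses.mk (1 : H))]
  · rw [map_smul, hout]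
    have h1 : classSumC K (1 : H) = 1 := by
      apply Subtype.ext
      ext a
      simp [classSumC, coeff_classSum, one_def, Finsupp.single_apply]
    rw [h1, map_one lam, smul_eq_mul, mul_one]
  · intro c _ hc
    rw [map_smul, smul_eq_mul, mul_eq_zero]
    by_cases hcQ : c.out ∈ Subgroup.centralizer (Q : Set H)
    · left
      apply hz
      obtain ⟨n, hn⟩ := IsPGroup.iff_orderOf.mp hC ⟨c.out, hcQ⟩
      rw [Subgroup.orderOf_mk] at hn
      rw [hn]
      cases n with
      | zero =>
        exfalso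
        rw [pow_zero, orderOf_eq_one_iff] at hn
        apply hc
        rw [← hn]
        exact (Quotient.out_eq c).symm
      | succ n => exact dvd_pow_self p n.succ_ne_zero
    · exact Or.inr (Cfsg.Agent.Lib.BrauerMap.Nilpotent.algHom_classSum_eq_zero hQ hcQ lam)
  · intro h
    exact absurd (Finset.mem_univ _) h

/-- The criterion. -/
theorem sameBlock_of_local (hM : Cfsg.IsPModular p M)
    (hloc : ∀ x : G, orderOf x = p → ∃ Q : Subgroup G, IsPGroup p Q ∧
      Q ≤ Subgroup.centralizer ({x} : Set G) ∧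
      Subgroup.centralizer ({x} : Set G) ≤ Subgroup.normalizer (Q : Set G) ∧
      IsPGroup p ↥(Subgroup.centralizer ({x} : Set G) ⊓ Subgroup.centralizer (Q : Set G)))
    (hdeg : ∀ χ : Cfsg.IrrCharacter G,
      ¬ p ^ (Nat.card G).factorization p ∣ Cfsg.charDegree (χ : G → ℂ))
    (χ ψ : Cfsg.IrrCharacter G) : Cfsg.SameBlock M (χ : G → ℂ) (ψ : G → ℂ) := by
  classical
  haveI : M.IsMaximal := hM.2.1
  haveI : Fact p.Prime := ⟨hM.1⟩
  haveI := charP_res hM
  haveI := Fintype.ofFinite G
  suffices h : ∀ θ : Cfsg.IrrCharacter G, blkOf M θ = princ (Res M) G by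
    rw [Cfsg.Agent.Lib.Blocks.sameBlock_iff_omegaBar]
    exact (h χ).trans (h ψ).symm
  intro θ
  set B := Cfsg.blockOf M (θ : G → ℂ)
  have hB : Cfsg.IsPBlock M B := Cfsg.Agent.Lib.Blocks.isPBlock_blockOf θ
  obtain ⟨D, hD⟩ := Cfsg.Agent.Lib.Blocks.exists_isDefectGroup (p := p) hB
  have hDp := Cfsg.Agent.Lib.Blocks.isPGroup_isDefectGroup hD
  obtain ⟨x, hxD, hx⟩ : ∃ x ∈ D, orderOf x = p := by
    rcases eq_or_ne D ⊥ with rfl | hne
    · refine absurd ?_ (hdeg θ)
      have := Cfsg.Agent.Lib.Blocks.pow_dvd_charDegree hM hB hD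
        (Cfsg.Agent.Lib.Blocks.mem_blockOf_self θ)
      rwa [Subgroup.index_bot] at this
    · haveI : Nontrivial D := D.nontrivial_iff_ne_bot.mpr hne
      obtain ⟨n, hn⟩ := IsPGroup.iff_card.mp hDp
      have hd : p ∣ Nat.card D := by
        rw [hn]
        refine dvd_pow_self p ?_
        rintro rfl
        exact hne (Subgroup.card_eq_one.mp (by simpa using hn))
      obtain ⟨⟨x, hxD⟩, hx⟩ := exists_prime_orderOf_dvd_card' p hd
      exact ⟨x, hxD, by rwa [Subgroup.orderOf_mk] at hx⟩
  obtain ⟨g, hg, P, hDeq⟩ := hD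
  have hgx : g ∈ Subgroup.centralizer ({x} : Set G) := by
    have h1 : x ∈ Subgroup.centralizer ({g} : Set G) := (hDeq.le.trans (Subgroup.map_subtype_le _)) hxD
    rw [Subgroup.mem_centralizer_singleton_iff] at h1 ⊢
    exact h1.symm
  -- the image in the centraliser
  set P0 := Subgroup.zpowers x
  have hC0 : Subgroup.centralizer (P0 : Set G) = Subgroup.centralizer ({x} : Set G) := by
    rw [show P0 = Subgroup.closure {x} from Subgroup.zpowers_eq_closure x,
      Subgroup.centralizer_closure]
  have hP0 : IsPGroup p P0 := IsPGroup.of_card (n := 1) (by rw [Nat.card_zpowers, hx, pow_one])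
  set C := Subgroup.centralizer (P0 : Set G) with hC
  have hHN : C ≤ Subgroup.normalizer (P0 : Set G) := Subgroup.centralizer_le_normalizer _
  let e : Subalgebra.center (Res M) (MonoidAlgebra (Res M) G) := idem (blk hB)
  let e' : Subalgebra.center (Res M) (MonoidAlgebra (Res M) C) :=
    brauerHom hP0 le_rfl hHN e
  have hco : ∀ h : C, e'.1.coeff h = (bidem (blk hB)).coeff (h : G) := by
    intro h
    show (brauerTo P0 C e.1).coeff h = _
    rw [coeff_brauerTo, if_pos h.2]
    rfl
  obtain ⟨Q, hQ, hQC, hQN, hQp⟩ := hloc x hx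
  rw [← hC0] at hQC hQN hQp
  haveI : (Q.subgroupOf C).Normal := Subgroup.normal_subgroupOf_of_le_normalizer hQN
  have hQ' : IsPGroup p (Q.subgroupOf C) :=
    hQ.comap_of_injective C.subtype C.subtype_injective
  have hCQ : IsPGroup p (Subgroup.centralizer ((Q.subgroupOf C : Subgroup C) : Set C)) := by
    refine (hQp.comap_of_injective C.subtype C.subtype_injective).to_le ?_
    intro c hc
    refine ⟨c.2, Subgroup.mem_centralizer_iff.mpr fun q hq => ?_⟩
    have := Subgroup.mem_centralizer_iff.mp hc ⟨q, hQC hq⟩ (Subgroup.mem_subgroupOf.mpr hq)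
    exact congrArg Subtype.val this
  have hzero : ∀ h : C, p ∣ orderOf h → e'.1.coeff h = 0 := by
    intro h hh
    rw [hco]
    by_contra hne
    rw [← Ne, coeff_bidem_ne_zero_iff hB] at hne
    rw [Cfsg.Agent.Lib.Blocks.blockCoeff_eq_zero_of_dvd hM hB
      (by rwa [Subgroup.orderOf_coe])] at hne
    exact hne Cfsg.Agent.Lib.Blocks.memLocalIdeal_zero
  have hval : ∀ lam : Subalgebra.center (Res M) (MonoidAlgebra (Res M) C) →ₐ[Res M] Res M,
      lam e' = e'.1.coeff 1 := fun lam => algHom_eq_coeff_one hQ' hCQ e' hzero lam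
  have hne : e'.1.coeff 1 ≠ 0 := by
    intro h0
    have hnil : IsNilpotent e' := Cfsg.Agent.Lib.Blocks.isNilpotent_of_omegaBar_eq_zero
      (fun φ => (hval _).trans h0)
    have hid : IsIdempotentElem e' := (idem_isIdem (blk hB)).map (brauerHom hP0 le_rfl hHN)
    have h1 : e' = 0 := hid.eq_zero_of_isNilpotent hnil
    have h2 := hco ⟨g, hC0 ▸ hgx⟩
    rw [h1] at h2
    exact ((isDefectClass_iff hB g).mp hg).1 h2.symm
  have hp1 : princ (Res M) C e' = princ (Res M) G e := by
    haveI := Fintype.ofFinite C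
    rw [princ_apply, princ_apply, Finset.sum_congr rfl fun h _ => hco h]
    change _ = ∑ h : G, (bidem (blk hB)).coeff h
    rw [← sum_coeff_centralizer hP0 (isFixedBy_of_mem_center _ (bidem_mem (blk hB)))]
    exact (Finset.sum_subtype _ (fun a => by simp [hC]) _).symm
  rw [hval] at hp1
  have hθ : blkOf M θ = blk hB := blkOf_of_mem hB (Cfsg.Agent.Lib.Blocks.mem_blockOf_self θ)
  rw [hθ]
  by_contra hne'
  apply hne
  rw [hp1, apply_idem, if_neg (Ne.symm hne')]

end Cfsg.Agent.Lib.MathieuBlocks.Criterion
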