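import Cfsg.Agent.Lib.MathieuBlocks.M22Elements
import Cfsg.Agent.Lib.MathieuBlocks.Values
import Cfsg.Agent.Lib.Characters.Degree

/-!
# No irreducible degree of M22 is divisible by 128
-/

set_option autoImplicit false

namespace Cfsg.Agent.Lib.MathieuBlocks.M22Degree

open Cfsg Cfsg.Agent.Lib.Computation Cfsg.Agent.Lib.Golay
open Cfsg.Agent.Lib.FusionAlperin.MathieuInst
open Cfsg.Agent.Lib.MathieuBlocks.Search Cfsg.Agent.Lib.MathieuBlocks.M22Elements
open Cfsg.Agent.Lib.MathieuBlocks.Values Cfsg.Agent.Lib.Characters.Basic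

theorem exists_element {x w q m : ℕ} (hq : q.Prime) (h : elementOk x w q m = true) :
    ∃ g : Spor.M22, (g : Equiv.Perm GolayPt) = gperm x ∧ orderOf g = q ∧ IsConj g (g ^ m) := by
  simp only [elementOk, Bool.and_eq_true, Bool.not_eq_true', Nat.beq_eq] at h
  obtain ⟨⟨⟨⟨hx, hw⟩, hpw⟩, hne⟩, hconj⟩ := h
  haveI := Fact.mk hq
  have hxok : okCode x = true := okCode_of_inM24 (by
    simp only [in22, in23, Bool.and_eq_true] at hx; exact hx.1.1)
  have hwok : okCode w = true := okCode_of_inM24 (by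
    simp only [in22, in23, Bool.and_eq_true] at hw; exact hw.1.1)
  refine ⟨⟨gperm x, mem22 x hx⟩, rfl, orderOf_eq_prime (Subtype.ext ?_) ?_,
    isConj_iff.mpr ⟨⟨gperm w, mem22 w hw⟩, Subtype.ext ?_⟩⟩
  · push_cast
    rw [← (pwCode_spec hxok q).2, hpw, gperm_oneCode]
  · intro e
    rw [← Bool.not_eq_true, Nat.beq_eq] at hne
    apply hne
    have e' : gperm x (pt 1) = pt 1 := by rw [show gperm x = 1 from congrArg Subtype.val e]; rfl
    have e2 := congrArg idx e'
    rwa [idx_gperm hxok, idx_pt (by norm_num)] at e2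
  · push_cast
    rw [mul_inv_eq_iff_eq_mul, ← (pwCode_spec hxok m).2, ← gperm_mul hwok hxok, hconj,
      gperm_mul (pwCode_spec hxok m).1 hwok]

/-- Centraliser index and conjugacy to the inverse, from the certificates. -/
theorem index_eq {x q : ℕ} {reps : List ℕ} {pos : List (ℕ × ℕ)} {first : List ℕ} {g : Spor.M22}
    (hg : (g : Equiv.Perm GolayPt) = gperm x) (hord : orderOf g = q)
    (h : certOk x x q reps pos first [0, 23] (fun c => Nat.beq c oneCode) = true) :
    (Subgroup.centralizer ({g} : Set Spor.M22)).index * q = 443520 := by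
  have hC : Subgroup.centralizer ({g} : Set Spor.M22) = Subgroup.zpowers g := by
    refine le_antisymm (fun u hu => ?_) (Subgroup.zpowers_le.mpr
      (Subgroup.mem_centralizer_singleton_iff.mpr rfl))
    have hu' := congrArg Subtype.val (Subgroup.mem_centralizer_singleton_iff.mp hu)
    rw [Subgroup.coe_mul, Subgroup.coe_mul, hg] at hu'
    obtain ⟨k, hk⟩ := eq_pow_of_cert h (hg ▸ g.2) u.2 hu'
    exact ⟨k, Subtype.ext (by simp [hg, hk])⟩
  have h1 := Subgroup.index_mul_card (Subgroup.centralizer ({g} : Set Spor.M22))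
  rw [hC, Nat.card_zpowers, hord, card22] at h1
  rw [hC]
  exact h1

theorem not_isConj_inv {x q : ℕ} {reps : List ℕ} {pos : List (ℕ × ℕ)} {first : List ℕ}
    {g : Spor.M22} (hg : (g : Equiv.Perm GolayPt) = gperm x) (hxok : okCode x = true)
    (hord : orderOf g = q) (hq : 0 < q)
    (h : certOk x (pwCode x (q - 1)) q reps pos first [0, 23] (fun _ => false) = true) :
    ¬ IsConj g g⁻¹ := by
  intro hc
  obtain ⟨u, hu⟩ := isConj_iff.mp hc
  have hinv : g⁻¹ = g ^ (q - 1) := by
    rw [inv_eq_of_mul_eq_one_right (b := g ^ (q - 1))]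
    rw [← pow_succ', Nat.sub_add_cancel hq, ← hord, pow_orderOf_eq_one]
  rw [hinv, mul_inv_eq_iff_eq_mul] at hu
  have hu' := congrArg Subtype.val hu
  push_cast at hu'
  rw [hg, ← (pwCode_spec hxok _).2] at hu'
  obtain ⟨k, v, -, hv⟩ := cert_spec h
    (by rw [(pwCode_spec hxok _).2, ← hg]; exact pow_mem g.2 _) u.2 hu'
  exact absurd hv (by simp)

open scoped Classical in
/-- No irreducible degree is divisible by 128. -/
theorem not_dvd_degree (χ : Cfsg.IrrCharacter Spor.M22) :
    ¬ 128 ∣ Cfsg.charDegree (χ : Spor.M22 → ℂ) := by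
  classical
  intro hdvd
  haveI := Fintype.ofFinite Spor.M22
  obtain ⟨d, hd0, hdG, hd1⟩ := Cfsg.Agent.Lib.Characters.Degree.exists_degree_dvd χ
  rw [card22] at hdG
  have hdd : Cfsg.charDegree (χ : Spor.M22 → ℂ) = d := by
    rw [Cfsg.charDegree, hd1]; simp
  rw [hdd] at hdvd
  have hχ := isCharacter_irr χ
  obtain ⟨a, ha, ha5, hc5⟩ := exists_element (by norm_num) element5
  obtain ⟨b, hb, hb7, hc7⟩ := exists_element (by norm_num) element7
  obtain ⟨c, hc, hc11o, hc11⟩ := exists_element (by norm_num) element11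
  have hokb : okCode x7 = true := by decide +kernel
  have hokc : okCode x11 = true := by decide +kernel
  have i5 := index_eq ha ha5 cent5
  have i7 := index_eq hb hb7 cent7
  have i11 := index_eq hc hc11o cent11
  have cov5 : Covered a 5 := covered_of_step (by norm_num) ha5 hc5 (by decide +kernel)
  have cov7 : Covered b 7 := covered_of_step (by norm_num) hb7 hc7 (by decide +kernel)
  have cov11 : Covered c 11 := covered_of_step (by norm_num) hc11o hc11 (by decide +kernel)
  have hainv : IsConj a a⁻¹ := by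
    have h4 := isConj_pow_iterate hc5 2
    have e : a⁻¹ = a ^ (2 ^ 2) := by
      rw [inv_eq_of_mul_eq_one_right (b := a ^ (2 ^ 2))]
      rw [← pow_succ', show 2 ^ 2 + 1 = 5 by norm_num, ← ha5, pow_orderOf_eq_one]
    rwa [e]
  have hbinv : ¬ IsConj b b⁻¹ := not_isConj_inv hb hokb hb7 (by norm_num) noInv7
  have hcinv : ¬ IsConj c c⁻¹ := not_isConj_inv hc hokc hc11o (by norm_num) noInv11
  have n5 : (pmClass a).card = 88704 := by rw [card_pmClass_of_isConj hainv]; omega
  have n7 : (pmClass b).card = 126720 := by rw [card_pmClass_of_not_isConj hbinv]; omega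
  have n11 : (pmClass c).card = 80640 := by rw [card_pmClass_of_not_isConj hcinv]; omega
  -- the part of the norm carried by these elements
  set S : Finset Spor.M22 := insert 1 (pmClass a ∪ pmClass b ∪ pmClass c) with hS
  have d57 : Disjoint (pmClass a) (pmClass b) := disjoint_pmClass (by omega)
  have d5711 : Disjoint (pmClass a ∪ pmClass b) (pmClass c) :=
    Finset.disjoint_union_left.mpr ⟨disjoint_pmClass (by omega), disjoint_pmClass (by omega)⟩
  have h1S : (1 : Spor.M22) ∉ pmClass a ∪ pmClass b ∪ pmClass c := by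
    simp only [Finset.mem_union, not_or]
    refine ⟨⟨?_, ?_⟩, ?_⟩ <;> intro h <;> have := orderOf_of_mem_pmClass h <;>
      rw [orderOf_one] at this <;> omega
  have hsum : ∀ {β : Type} [AddCommMonoid β] (f : Spor.M22 → β), ∑ g ∈ S, f g =
      f 1 + (∑ g ∈ pmClass a, f g + ∑ g ∈ pmClass b, f g + ∑ g ∈ pmClass c, f g) := by
    intro β _ f
    rw [hS, Finset.sum_insert h1S, Finset.sum_union d5711, Finset.sum_union d57]
  have htot := sum_normSq_irr χ
  rw [card22] at htot
  have hle : ∑ g ∈ S, Complex.normSq ((χ : Spor.M22 → ℂ) g) ≤ (443520 : ℝ) := by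
    calc ∑ g ∈ S, Complex.normSq ((χ : Spor.M22 → ℂ) g)
        ≤ ∑ g, Complex.normSq ((χ : Spor.M22 → ℂ) g) :=
          Finset.sum_le_sum_of_subset_of_nonneg (Finset.subset_univ _)
            fun g _ _ => Complex.normSq_nonneg _
      _ = 443520 := by rw [htot]; norm_num
  rw [hsum, hd1, Complex.normSq_natCast] at hle
  have hnn : ∀ T : Finset Spor.M22, 0 ≤ ∑ g ∈ T, Complex.normSq ((χ : Spor.M22 → ℂ) g) :=
    fun T => Finset.sum_nonneg fun g _ => Complex.normSq_nonneg _
  -- the possible degrees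
  have hd666 : d < 667 := by
    by_contra hbig
    have h1 : (667 : ℝ) ≤ d := by exact_mod_cast not_lt.mp hbig
    nlinarith [hnn (pmClass a), hnn (pmClass b), hnn (pmClass c)]
  obtain ⟨j, rfl⟩ := hdvd
  have hj : j = 1 ∨ j = 3 ∨ j = 5 := by
    have hj6 : j < 6 := by omega
    clear * - hj6 hdG
    interval_cases j <;> first | decide | norm_num at hdG
  -- the elements of order five
  have hval5 : ∀ g ∈ pmClass a, (χ : Spor.M22 → ℂ) g = (χ : Spor.M22 → ℂ) a := by
    intro g hg
    rcases mem_pmClass.mp hg with h | h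
    · exact (apply_eq_of_isConj hχ h).symm
    · exact (apply_eq_of_isConj hχ (hainv.trans h)).symm
  obtain ⟨n, hn⟩ := exists_sum_pow hχ a
  have hpow : ∀ i ∈ [1, 2, 3, 4], (χ : Spor.M22 → ℂ) (a ^ i) = (χ : Spor.M22 → ℂ) a := by
    intro i hi
    refine hval5 _ (mem_pmClass.mpr (cov5 i ?_))
    revert i; decide
  simp only [ha5, Finset.sum_range_succ, Finset.sum_range_zero, zero_add, pow_zero, hd1] at hn
  rw [hpow 1 (by simp), hpow 2 (by simp), hpow 3 (by simp), hpow 4 (by simp)] at hn
  obtain ⟨β, hβ⟩ := exists_int_of_rat (isIntegral_apply hχ a)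
    ((5 * n - (128 * j : ℕ)) / 4) (by push_cast at hn ⊢; linear_combination (-1/4 : ℂ) * hn)
  have hβeq : (128 * j : ℤ) + 4 * β = 5 * n := by
    have : ((128 * j : ℤ) : ℂ) + 4 * (β : ℂ) = 5 * (n : ℂ) := by
      rw [hβ]; push_cast at hn ⊢; linear_combination hn
    exact_mod_cast this
  have hs5 : ∑ g ∈ pmClass a, Complex.normSq ((χ : Spor.M22 → ℂ) g) = 88704 * (β : ℝ) ^ 2 := by
    rw [Finset.sum_congr rfl (g := fun _ => (β : ℝ) ^ 2) fun g hg => by
      rw [hval5 g hg, ← hβ, Complex.normSq_intCast, pow_two]]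
    rw [Finset.sum_const, n5, nsmul_eq_mul]
    norm_num
  rw [hs5] at hle
  have l7 : ¬ 7 ∣ 128 * j → (126720 : ℝ) ≤
      ∑ g ∈ pmClass b, Complex.normSq ((χ : Spor.M22 → ℂ) g) := fun h => by
    have := card_le_of_covered hχ hb7 (by norm_num) cov7 hd1 h
    rw [n7] at this
    exact_mod_cast this
  have l11 : ¬ 11 ∣ 128 * j → (80640 : ℝ) ≤
      ∑ g ∈ pmClass c, Complex.normSq ((χ : Spor.M22 → ℂ) g) := fun h => by
    have := card_le_of_covered hχ hc11o (by norm_num) cov11 hd1 h
    rw [n11] at this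
    exact_mod_cast this
  push_cast at hle
  rcases hj with rfl | rfl | rfl
  · -- degree 128
    have hb2 : (2 : ℤ) ≤ β ∨ β ≤ -2 := by omega
    have hb4 : (4 : ℝ) ≤ (β : ℝ) ^ 2 := by
      rcases hb2 with h | h
      · have : (2 : ℝ) ≤ β := by exact_mod_cast h
        nlinarith
      · have : (β : ℝ) ≤ -2 := by exact_mod_cast h
        nlinarith
    norm_num at hle
    nlinarith [l11 (by norm_num), hnn (pmClass b)]
  · -- degree 384
    have hb0 : β ≠ 0 := by omega
    have hb1 : β = 1 ∨ β = -1 := by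
      by_contra hnot
      have hb2 : (2 : ℤ) ≤ β ∨ β ≤ -2 := by omega
      have hb4 : (4 : ℝ) ≤ (β : ℝ) ^ 2 := by
        rcases hb2 with h | h
        · have : (2 : ℝ) ≤ β := by exact_mod_cast h
          nlinarith
        · have : (β : ℝ) ≤ -2 := by exact_mod_cast h
          nlinarith
      nlinarith [l7 (by norm_num), l11 (by norm_num)]
    have hb1' : (β : ℝ) ^ 2 = 1 := by rcases hb1 with rfl | rfl <;> norm_num
    have hout : ∀ g, g ∉ S → (χ : Spor.M22 → ℂ) g = 0 := by
      intro g hg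
      have h := Finset.sum_sdiff (Finset.subset_univ S)
        (f := fun g => Complex.normSq ((χ : Spor.M22 → ℂ) g))
      rw [htot, hsum, hd1, Complex.normSq_natCast, hs5, hb1'] at h
      have hz : ∑ g ∈ Finset.univ \ S, Complex.normSq ((χ : Spor.M22 → ℂ) g) = 0 := by
        refine le_antisymm ?_ (hnn _)
        push_cast at h
        nlinarith [l7 (by norm_num), l11 (by norm_num)]
      exact Complex.normSq_eq_zero.mp ((Finset.sum_eq_zero_iff_of_nonneg
        fun g _ => Complex.normSq_nonneg _).mp hz g (Finset.mem_sdiff.mpr ⟨Finset.mem_univ g, hg⟩))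
    have hne1 : χ ≠ oneChar Spor.M22 := by
      rintro rfl
      rw [oneChar_apply] at hd1
      norm_num at hd1
    have h0 := sum_irr_eq_zero hne1
    rw [← Finset.sum_subset (Finset.subset_univ S) (fun g _ hg => hout g hg), hsum, hd1,
      Finset.sum_congr rfl (g := fun _ => (β : ℂ)) fun g hg => (hval5 g hg).trans hβ.symm,
      Finset.sum_const, n5, nsmul_eq_mul,
      sum_pmClass hbinv _ (fun _ _ h => apply_eq_of_isConj hχ h),
      sum_pmClass hcinv _ (fun _ _ h => apply_eq_of_isConj hχ h),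
      show (Subgroup.centralizer ({b} : Set Spor.M22)).index = 63360 by omega,
      show (Subgroup.centralizer ({c} : Set Spor.M22)).index = 40320 by omega] at h0
    set A := (χ : Spor.M22 → ℂ) b + (χ : Spor.M22 → ℂ) b⁻¹
    set E := (χ : Spor.M22 → ℂ) c + (χ : Spor.M22 → ℂ) c⁻¹
    have hint : IsIntegral ℤ (11 * A + 7 * E) :=
      ((isIntegral_algebraMap (x := (11 : ℤ))).mul
        ((isIntegral_apply hχ _).add (isIntegral_apply hχ _))).add
      ((isIntegral_algebraMap (x := (7 : ℤ))).mul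
        ((isIntegral_apply hχ _).add (isIntegral_apply hχ _)))
    obtain ⟨z, hz⟩ := exists_int_of_rat hint ((-384 - 88704 * β) / 5760)
      (by push_cast at h0 ⊢; linear_combination (-1/5760 : ℂ) * h0)
    have : (5760 : ℤ) * z = -384 - 88704 * β := by
      have : (5760 : ℂ) * (z : ℂ) = -384 - 88704 * (β : ℂ) := by
        rw [hz]; push_cast at h0 ⊢; linear_combination h0
      exact_mod_cast this
    omega
  · -- degree 640
    norm_num at hle
    nlinarith [l7 (by norm_num), hnn (pmClass c), sq_nonneg (β : ℝ)]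

end Cfsg.Agent.Lib.MathieuBlocks.M22Degree
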