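import Cfsg.Agent.Lib.MathieuBlocks.Search

/-!
# Elements of order 5, 7, 11 of M22
-/

set_option autoImplicit false
set_option maxRecDepth 8000

namespace Cfsg.Agent.Lib.MathieuBlocks.M22Elements

open Cfsg Cfsg.Agent.Lib.Computation Cfsg.Agent.Lib.Golay
open Cfsg.Agent.Lib.FusionAlperin.MathieuInst Cfsg.Agent.Lib.MathieuBlocks.Search

/-- An element of order 5. -/
def x5 : ℕ := 965366146192393293168117872518674720

/-- An element conjugating it to its power of exponent 2. -/
def w5 : ℕ := 960660588657698550053968137592250400

/-- Representatives of its cycles. -/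
def reps5 : List ℕ := [1, 2, 3, 7, 0, 18, 19, 23]

/-- Positions of the points in its cycles. -/
def pos5 : List (ℕ × ℕ) := [(4, 0), (0, 0), (1, 0), (2, 0), (1, 2), (2, 1), (0, 4), (3, 0), (3, 1), (0, 1), (0, 2), (0, 3), (1, 4), (3, 2), (1, 1), (1, 3), (2, 2), (2, 3), (5, 0), (6, 0), (2, 4), (3, 3), (3, 4), (7, 0)]

/-- The representatives of the cycles of length 5. -/
def first5 : List ℕ := [1, 2, 3, 7]

/-- An element of order 7. -/
def x7 : ℕ := 977702979355828030395612297829827264

/-- An element conjugating it to its power of exponent 2. -/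
def w7 : ℕ := 978232306616840917514790011779221536

/-- Representatives of its cycles. -/
def reps7 : List ℕ := [1, 2, 6, 0, 15, 23]

/-- Positions of the points in its cycles. -/
def pos7 : List (ℕ × ℕ) := [(3, 0), (0, 0), (1, 0), (0, 3), (0, 5), (1, 3), (2, 0), (2, 3), (0, 4), (2, 4), (2, 1), (1, 4), (1, 6), (1, 5), (1, 2), (4, 0), (1, 1), (0, 2), (0, 6), (2, 5), (2, 2), (2, 6), (0, 1), (5, 0)]

/-- The representatives of the cycles of length 7. -/
def first7 : List ℕ := [1, 2, 6]

/-- An element of order 11. -/
def x11 : ℕ := 978917004372260985325262684036937248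

/-- An element conjugating it to its power of exponent 3. -/
def w11 : ℕ := 980640999119466433597343093748973600

/-- Representatives of its cycles. -/
def reps11 : List ℕ := [1, 3, 0, 23]

/-- Positions of the points in its cycles. -/
def pos11 : List (ℕ × ℕ) := [(2, 0), (0, 0), (0, 9), (1, 0), (1, 7), (1, 2), (1, 4), (1, 9), (1, 5), (1, 3), (0, 4), (0, 7), (0, 8), (0, 10), (1, 10), (1, 8), (0, 5), (0, 1), (0, 3), (0, 6), (1, 1), (1, 6), (0, 2), (3, 0)]

/-- The representatives of the cycles of length 11. -/
def first11 : List ℕ := [1, 3]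

/-- The facts checked on an element of prime order. -/
def elementOk (x w q m : ℕ) : Bool :=
  in22 x && in22 w && Nat.beq (pwCode x q) oneCode && !Nat.beq (getW 5 x 1) 1 &&
    Nat.beq (mulP 24 5 w x) (mulP 24 5 (pwCode x m) w)

theorem element5 : elementOk x5 w5 5 2 = true := by decide +kernel
theorem element7 : elementOk x7 w7 7 2 = true := by decide +kernel
theorem element11 : elementOk x11 w11 11 3 = true := by decide +kernel

theorem cent11 : certOk x11 x11 11 reps11 pos11 first11 [0, 23] (fun c => Nat.beq c oneCode) = true := by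
  decide +kernel

theorem noInv11 : certOk x11 (pwCode x11 10) 11 reps11 pos11 first11 [0, 23] (fun _ => false) = true := by
  decide +kernel

theorem cent7 : certOk x7 x7 7 reps7 pos7 first7 [0, 23] (fun c => Nat.beq c oneCode) = true := by
  decide +kernel

theorem noInv7 : certOk x7 (pwCode x7 6) 7 reps7 pos7 first7 [0, 23] (fun _ => false) = true := by
  decide +kernel

theorem cent5 : certOk x5 x5 5 reps5 pos5 first5 [0, 23] (fun c => Nat.beq c oneCode) = true := by
  decide +kernel

end Cfsg.Agent.Lib.MathieuBlocks.M22Elements
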