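import Cfsg.Agent.Lib.FusionAlperin.MathieuInst
import Cfsg.Agent.Lib.FusionAlperin.M22Data
import Cfsg.Agent.Lib.MathieuBlocks.OctadCentralizer

/-!
# Involutions of M22 fix octads
-/

set_option autoImplicit false
set_option maxRecDepth 8000

namespace Cfsg.Agent.Lib.MathieuBlocks.M22Local

open Cfsg Cfsg.Agent.Lib.Computation Cfsg.Agent.Lib.Golay
open Cfsg.Agent.Lib.FusionAlperin.MathieuCert Cfsg.Agent.Lib.FusionAlperin.MathieuInst
open Cfsg.Agent.Lib.MathieuBlocks.OctadCentralizer
open scoped Pointwise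

/-- The listed group. -/
theorem groupOk22 : groupOk in22 Cfsg.Agent.Lib.FusionAlperin.M22Data.gens
    Cfsg.Agent.Lib.FusionAlperin.M22Data.els = true := by decide +kernel

/-- The listed involutions fix the points of an octad. -/
theorem involutions_octad : ((Cfsg.Agent.Lib.FusionAlperin.M22Data.els.map Prod.fst).all fun c =>
    Nat.beq c oneCode || !Nat.beq (mulP 24 5 c c) oneCode ||
      (inCode (fixMask c) && Nat.beq (pc24 (fixMask c)) 8)) = true := by decide +kernel

theorem card_els : (Cfsg.Agent.Lib.FusionAlperin.M22Data.els.map Prod.fst).length = 2 ^ 7 := by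
  decide +kernel

theorem mem_M22_iff {g : Equiv.Perm GolayPt} :
    g ∈ Spor.M22 ↔ g ∈ M24 ∧ g none = none ∧ g (some 0) = some 0 :=
  ⟨fun h => ⟨h.1.1, h.1.2, h.2⟩, fun h => ⟨⟨h.1, h.2.1⟩, h.2.2⟩⟩

open scoped Classical in
/-- The set of fixed points. -/
noncomputable def fixSet (g : Equiv.Perm GolayPt) : Finset GolayPt :=
  Finset.univ.filter fun p => g p = p

theorem mem_fixSet {g : Equiv.Perm GolayPt} {p : GolayPt} : p ∈ fixSet g ↔ g p = p := by
  classical
  simp [fixSet]

theorem smul_fixSet_eq {g a : Equiv.Perm GolayPt} :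
    a • fixSet g = fixSet (a * g * a⁻¹) := by
  ext p
  rw [← Finset.inv_smul_mem_iff, mem_fixSet, mem_fixSet, Equiv.Perm.smul_def, Equiv.Perm.mul_apply,
    Equiv.Perm.mul_apply, Equiv.Perm.inv_def]
  exact ⟨fun h => by rw [h, Equiv.apply_symm_apply], fun h => by
    conv_rhs => rw [← h, Equiv.symm_apply_apply]⟩

/-- The fixed points of an involution of M22 form an octad. -/
theorem fixSet_mem_octads {z : Spor.M22} (hz : orderOf z = 2) :
    fixSet (z : Equiv.Perm GolayPt) ∈ octads := by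
  haveI : Fact (Nat.Prime 2) := ⟨Nat.prime_two⟩
  have D := groupData_of_ok (H := Spor.M22) mem22 groupOk22
  have hcard : Nat.card (genBy Cfsg.Agent.Lib.FusionAlperin.M22Data.gens) = 2 ^ 7 := by
    rw [D.card_eq, card_els]
  have hfac : (Nat.card Spor.M22).factorization 2 = 7 := by
    rw [card22]
    rw [show (443520 : ℕ) = 2 ^ 7 * 3465 by norm_num, Nat.factorization_mul (by norm_num)
      (by norm_num), Finsupp.add_apply, Nat.Prime.factorization_pow Nat.prime_two,
      Finsupp.single_eq_same, Nat.factorization_eq_zero_of_not_dvd (by norm_num : ¬ 2 ∣ 3465)]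
  obtain ⟨T, hT⟩ : ∃ T : Sylow 2 Spor.M22, (T : Subgroup Spor.M22) =
      (genBy Cfsg.Agent.Lib.FusionAlperin.M22Data.gens).subgroupOf Spor.M22 := by
    refine ⟨Sylow.ofCard _ ?_, rfl⟩
    rw [hfac, ← hcard]
    exact Nat.card_congr (Subgroup.subgroupOfEquivOfLe D.le).toEquiv
  obtain ⟨S, hS⟩ := (IsPGroup.of_card (p := 2) (n := 1)
    (by rw [Nat.card_zpowers, hz, pow_one]) : IsPGroup 2 (Subgroup.zpowers z)).exists_le_sylow
  obtain ⟨a, ha⟩ := MulAction.exists_smul_eq Spor.M22 S T
  have hmem : a * z * a⁻¹ ∈ (T : Subgroup Spor.M22) := by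
    rw [← ha, Sylow.coe_subgroup_smul]
    exact ⟨z, hS (Subgroup.mem_zpowers z), rfl⟩
  rw [hT, Subgroup.mem_subgroupOf] at hmem
  obtain ⟨c, hc, he⟩ := D.exists_code hmem
  have hne : gperm c ≠ 1 := by
    rw [he]
    intro h
    have h1 : (a * z * a⁻¹ : Spor.M22) = 1 := Subtype.ext h
    rw [conj_eq_one_iff] at h1
    rw [h1, orderOf_one] at hz
    exact absurd hz (by norm_num)
  have hsq : gperm c * gperm c = 1 := by
    rw [he, ← Subgroup.coe_mul]
    have h1 : z * z = 1 := by rw [← pow_two, ← hz, pow_orderOf_eq_one]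
    rw [show a * z * a⁻¹ * (a * z * a⁻¹) = a * (z * z) * a⁻¹ by group, h1]
    simp
  have h := List.all_eq_true.mp involutions_octad c hc
  simp only [Bool.or_eq_true, Bool.and_eq_true, Bool.not_eq_true', Nat.beq_eq] at h
  rcases h with (h | h) | h
  · exact absurd (h ▸ gperm_oneCode) hne
  · exfalso
    have hok := (D.ok c hc).1
    have := D.eq_of_mem_mul hc hc D.oneMem (by rw [hsq, gperm_oneCode])
    rw [← Bool.not_eq_true, Nat.beq_eq] at h
    apply h
    rw [← this]
    unfold canon mulP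
    simp only [forceNat_eq]
    exact packW_congr fun i hi => (getW_packW (w := 5) (f := fun x => getW 5 c (getW 5 c x)) (fun x _ => by
      rw [getW_eq]
      exact Nat.mod_lt _ (Nat.two_pow_pos 5)) hi).symm
  · have hset : setOfMask (fixMask c) = fixSet (gperm c) := by
      ext p
      rw [mem_setOfMask, mem_fixMask (D.ok c hc).1, mem_fixSet]
    have ho : fixSet (gperm c) ∈ octads := by
      rw [← hset]
      exact ⟨setOfMask_mem_supports h.1, by rw [card_setOfMask, h.2]⟩
    have := smul_mem_octads (inv_mem a.2.1.1) ho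
    rw [smul_fixSet_eq, he] at this
    convert this using 2
    simp [mul_assoc]

/-- Each involution has a normal 2-subgroup of its centraliser with 2-group centraliser. -/
theorem local22 (z : Spor.M22) (hz : orderOf z = 2) : ∃ Q : Subgroup Spor.M22, IsPGroup 2 Q ∧
    Q ≤ Subgroup.centralizer ({z} : Set Spor.M22) ∧
    Subgroup.centralizer ({z} : Set Spor.M22) ≤ Subgroup.normalizer (Q : Set Spor.M22) ∧
    IsPGroup 2 ↥(Subgroup.centralizer ({z} : Set Spor.M22) ⊓
      Subgroup.centralizer (Q : Set Spor.M22)) := by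
  set o := fixSet (z : Equiv.Perm GolayPt) with ho'
  have ho : o ∈ octads := fixSet_mem_octads hz
  obtain ⟨hzM, hzn, hz0⟩ := mem_M22_iff.mp z.2
  have hzQ : (z : Equiv.Perm GolayPt) ∈ octadFix o :=
    mem_octadFix.mpr ⟨hzM, fun p hp => mem_fixSet.mp hp⟩
  have hle : octadFix o ≤ Spor.M22 := fun g hg => by
    obtain ⟨hg1, hg2⟩ := mem_octadFix.mp hg
    exact mem_M22_iff.mpr ⟨hg1, hg2 _ (mem_fixSet.mpr hzn), hg2 _ (mem_fixSet.mpr hz0)⟩
  set Q := (octadFix o).subgroupOf Spor.M22 with hQ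
  have hQp : IsPGroup 2 Q := IsPGroup.of_card (n := 4) (by
    rw [Nat.card_congr (Subgroup.subgroupOfEquivOfLe hle).toEquiv, (octadFix_spec ho).1]
    norm_num)
  have hinv : ∀ g ∈ octadFix o, g⁻¹ = g := fun g hg =>
    inv_eq_of_mul_eq_one_right ((octadFix_spec ho).2 g hg)
  refine ⟨Q, hQp, fun q hq => ?_, fun a ha => ?_, hQp.to_le ?_⟩
  · rw [Subgroup.mem_centralizer_singleton_iff]
    apply Subtype.ext
    have hq' : (q : Equiv.Perm GolayPt) ∈ octadFix o := hq
    have h := hinv _ (mul_mem hq' hzQ)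
    rw [mul_inv_rev, hinv _ hq', hinv _ hzQ] at h
    exact h.symm
  · have hfix : (a : Equiv.Perm GolayPt) • o = o := by
      rw [ho', smul_fixSet_eq, ← Subgroup.coe_inv, ← Subgroup.coe_mul, ← Subgroup.coe_mul,
        Subgroup.mem_centralizer_singleton_iff.mp ha, mul_inv_cancel_right]
    have hconj := octadFix_conj a.2.1.1 hfix
    rw [Subgroup.mem_normalizer_iff]
    intro q
    have hq : ∀ q : Spor.M22, q ∈ Q ↔ (q : Equiv.Perm GolayPt) ∈ octadFix o :=
      fun q => Subgroup.mem_subgroupOf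
    simp only [hq, Subgroup.coe_mul, Subgroup.coe_inv]
    constructor
    · intro h
      rw [hconj]
      exact ⟨_, h, rfl⟩
    · intro h
      rw [hconj] at h
      obtain ⟨q', hq', e⟩ := h
      have e' : q' = (q : Equiv.Perm GolayPt) := (MulAut.conj (a : Equiv.Perm GolayPt)).injective e
      rwa [← e']
  · intro a ha
    obtain ⟨haz, haQ⟩ := ha
    have hfix : (a : Equiv.Perm GolayPt) • o = o := by
      rw [ho', smul_fixSet_eq, ← Subgroup.coe_inv, ← Subgroup.coe_mul, ← Subgroup.coe_mul,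
        Subgroup.mem_centralizer_singleton_iff.mp haz, mul_inv_cancel_right]
    refine Subgroup.mem_subgroupOf.mpr (mem_octadFix_of_commute ho a.2.1.1 hfix fun g hg => ?_)
    exact congrArg Subtype.val
      (Subgroup.mem_centralizer_iff.mp haQ ⟨g, hle hg⟩ (Subgroup.mem_subgroupOf.mpr hg)).symm

end Cfsg.Agent.Lib.MathieuBlocks.M22Local
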