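import Cfsg.Agent.Lib.MathieuBlocks.Values
import Cfsg.Agent.Lib.Blocks.DefectGroup

/-!
# Congruences for character values on elements of prime order, and non-vanishing
-/

set_option autoImplicit false

namespace Cfsg.Agent.Lib.MathieuBlocks.NormData

open Cfsg.Agent.Lib.Characters.Basic Cfsg.Agent.Lib.MathieuBlocks.Values
open scoped ComplexConjugate

universe u

variable {G : Type u} [Group G]

/-- Every power of exponent prime to `n` is conjugate to the element or to its inverse. -/
def CoveredU (x : G) (n : ℕ) : Prop :=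
  ∀ k : ℕ, k.Coprime n → IsConj x (x ^ k) ∨ IsConj x⁻¹ (x ^ k)

theorem inv_eq_pow {x : G} {n : ℕ} (hn : 0 < n) (hx : orderOf x = n) : x⁻¹ = x ^ (n - 1) := by
  rw [inv_eq_of_mul_eq_one_right (b := x ^ (n - 1))]
  rw [← pow_succ', Nat.sub_add_cancel hn, ← hx, pow_orderOf_eq_one]

theorem coveredU_of_step {x : G} {n m : ℕ} (hn : 0 < n) (hx : orderOf x = n)
    (h : IsConj x (x ^ m))
    (hcov : ∀ k < n, k.Coprime n → ∃ i < n, m ^ i % n = k ∨ (n - 1) * m ^ i % n = k) :
    CoveredU x n := by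
  intro k hk
  have hk' : (k % n).Coprime n := by rw [Nat.Coprime, ← Nat.gcd_rec, Nat.gcd_comm]; exact hk
  obtain ⟨i, -, hi⟩ := hcov (k % n) (Nat.mod_lt _ hn) hk'
  have hmod : ∀ a, a % n = k % n → x ^ a = x ^ k := fun a ha => by
    rw [← pow_mod_orderOf, hx, ha, ← hx, pow_mod_orderOf]
  rcases hi with hi | hi
  · left
    rw [← hmod _ hi]
    exact isConj_pow_iterate h i
  · right
    rw [← hmod _ hi, mul_comm, pow_mul, inv_eq_pow hn hx]
    exact isConj_pow_pow (isConj_pow_iterate h i) _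

variable [Fintype G]

theorem conj_apply_inv {χ : G → ℂ} (hχ : Cfsg.IsCharacter G χ) (x : G) :
    χ x⁻¹ = conj (χ x) := apply_inv hχ x

theorem normSq_of_mem {χ : G → ℂ} (hχ : Cfsg.IsCharacter G χ) {x g : G} (hg : g ∈ pmClass x) :
    Complex.normSq (χ g) = Complex.normSq (χ x) := by
  rcases mem_pmClass.mp hg with h | h
  · rw [apply_eq_of_isConj hχ h]
  · rw [← apply_eq_of_isConj hχ h, conj_apply_inv hχ, Complex.normSq_conj]

/-- The squares on the two classes are all equal. -/
theorem sum_normSq_pmClass {χ : G → ℂ} (hχ : Cfsg.IsCharacter G χ) (x : G) :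
    ∑ g ∈ pmClass x, Complex.normSq (χ g) = (pmClass x).card * Complex.normSq (χ x) := by
  rw [Finset.sum_congr rfl fun g hg => normSq_of_mem hχ hg, Finset.sum_const, nsmul_eq_mul]

/-- A character not vanishing at a covered element has squares there adding up to at least the
number of elements. -/
theorem card_le_of_ne {χ : G → ℂ} (hχ : Cfsg.IsCharacter G χ) {x : G} {n : ℕ}
    (hx : orderOf x = n) (hc : CoveredU x n) (hne : χ x ≠ 0) :
    ((pmClass x).card : ℝ) ≤ ∑ g ∈ pmClass x, Complex.normSq (χ g) := by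
  refine Cfsg.Agent.Lib.BC78.Galois.card_le_sum_normSq hχ (pmClass x) (fun g hg k hk => ?_)
    (fun g hg h0 => hne ?_)
  · have hkn : k.Coprime n := hk.coprime_dvd_right (hx ▸ orderOf_dvd_natCard x)
    rcases mem_pmClass.mp hg with h | h
    · rw [mem_pmClass]
      rcases hc k hkn with h' | h'
      · exact Or.inl (h'.trans (isConj_pow_pow h k))
      · exact Or.inr (h'.trans (isConj_pow_pow h k))
    · rw [mem_pmClass]
      have h1 : IsConj (x ^ k)⁻¹ (g ^ k) := by rw [← inv_pow]; exact isConj_pow_pow h k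
      have hinv : ∀ {a b : G}, IsConj a b → IsConj a⁻¹ b⁻¹ := fun {a b} hab => by
        obtain ⟨c, rfl⟩ := isConj_iff.mp hab
        exact isConj_iff.mpr ⟨c, by group⟩
      rcases hc k hkn with h' | h'
      · exact Or.inr ((hinv h').trans h1)
      · exact Or.inl ((by simpa using hinv h' : IsConj x (x ^ k)⁻¹).trans h1)
  · have h2 := normSq_of_mem hχ hg
    rw [h0, map_zero] at h2
    exact Complex.normSq_eq_zero.mp h2.symm

/-- The sum over a cyclic group of prime order, split between the two classes. -/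
theorem exists_split {f : G → ℂ} (hf : Cfsg.IsCharacter G f) {x : G} {q : ℕ}
    (hx : orderOf x = q) (R : Finset ℕ) (hR : ∀ k ∈ R, IsConj x (x ^ k))
    (hsplit : insert 0 (R ∪ R.image (fun k => q - k)) = Finset.range q)
    (hdisj : Disjoint R (R.image (fun k => q - k))) (h0 : 0 ∉ R ∪ R.image (fun k => q - k)) :
    ∃ n : ℕ, f 1 + (R.card : ℂ) * (f x + f x⁻¹) = (q : ℂ) * n := by
  obtain ⟨n, hn⟩ := exists_sum_pow hf x
  refine ⟨n, ?_⟩
  rw [hx] at hn
  have hlt : ∀ k ∈ R, k < q := fun k hk => Finset.mem_range.mp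
    (hsplit ▸ Finset.mem_insert_of_mem (Finset.mem_union_left _ hk))
  rw [← hsplit, Finset.sum_insert h0, Finset.sum_union hdisj, pow_zero,
    Finset.sum_image (fun a ha b hb hab => by
      have := hlt a ha; have := hlt b hb; omega),
    Finset.sum_congr rfl (g := fun _ => f x) (fun k hk => (apply_eq_of_isConj hf (hR k hk)).symm),
    Finset.sum_const, Finset.sum_congr rfl (g := fun _ => f x⁻¹) (fun k hk => ?_),
    Finset.sum_const, nsmul_eq_mul, nsmul_eq_mul] at hn
  · rw [← hn]; ring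
  · have e : x ^ (q - k) = (x ^ k)⁻¹ := eq_inv_of_mul_eq_one_left (by
      rw [← pow_add, Nat.sub_add_cancel (hlt k hk).le, ← hx, pow_orderOf_eq_one])
    obtain ⟨c, hc⟩ := isConj_iff.mp (hR k hk)
    rw [e, ← hc]
    exact (apply_eq_of_isConj hf (isConj_iff.mpr ⟨c, by group⟩)).symm

/-- The trace and the norm of a value at an element of prime order, with their congruences. -/
theorem exists_trace_norm {χ : G → ℂ} (hχ : Cfsg.IsCharacter G χ) {x : G} {q d : ℕ}
    (hx : orderOf x = q) (hd : χ 1 = d) (R : Finset ℕ) (hR : ∀ k ∈ R, IsConj x (x ^ k))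
    (hsplit : insert 0 (R ∪ R.image (fun k => q - k)) = Finset.range q)
    (hdisj : Disjoint R (R.image (fun k => q - k))) (h0 : 0 ∉ R ∪ R.image (fun k => q - k))
    (hcard : R.card ≠ 0) :
    ∃ X N : ℤ, (X : ℂ) = χ x + χ x⁻¹ ∧ (N : ℝ) = Complex.normSq (χ x) ∧ X * X ≤ 4 * N ∧
      (q : ℤ) ∣ R.card * X + d ∧ (q : ℤ) ∣ 2 * R.card * N + d * d := by
  obtain ⟨n, hn⟩ := exists_split hχ hx R hR hsplit hdisj h0
  obtain ⟨m, hm⟩ := exists_split (isCharacter_mul hχ (isCharacter_conj hχ)) hx R hR hsplit hdisj h0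
  have hmul : ∀ g, (χ * fun g => conj (χ g)) g = (Complex.normSq (χ g) : ℂ) := fun g => by
    rw [Pi.mul_apply, Complex.mul_conj]
  rw [hmul, hmul, hmul, conj_apply_inv hχ, Complex.normSq_conj] at hm
  have hc0 : (R.card : ℂ) ≠ 0 := Nat.cast_ne_zero.mpr hcard
  obtain ⟨X, hX⟩ := exists_int_of_rat ((isIntegral_apply hχ x).add (isIntegral_apply hχ x⁻¹))
    (((q : ℚ) * n - d) / R.card) (by
      push_cast
      rw [hd] at hn
      rw [← hn]
      field_simp
      ring)
  have hNint : IsIntegral ℤ ((Complex.normSq (χ x) : ℝ) : ℂ) := by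
    rw [← Complex.mul_conj, ← conj_apply_inv hχ]
    exact (isIntegral_apply hχ x).mul (isIntegral_apply hχ _)
  obtain ⟨N, hN⟩ := exists_int_of_rat hNint (((q : ℚ) * m - d * d) / (2 * R.card)) (by
      push_cast
      rw [hd, Complex.normSq_natCast] at hm
      push_cast at hm
      rw [← hm]
      field_simp
      ring)
  have hN' : (N : ℝ) = Complex.normSq (χ x) := by exact_mod_cast hN
  refine ⟨X, N, hX, hN', ?_, ⟨n, ?_⟩, ⟨m, ?_⟩⟩
  · have hre : (X : ℝ) = 2 * (χ x).re := by
      have h2 := congrArg Complex.re hX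
      rw [conj_apply_inv hχ, Complex.add_re, Complex.conj_re, Complex.intCast_re] at h2
      linarith
    have h4 : ((X * X : ℤ) : ℝ) ≤ ((4 * N : ℤ) : ℝ) := by
      push_cast
      rw [hre, hN', Complex.normSq_apply]
      nlinarith [mul_self_nonneg (χ x).im]
    exact_mod_cast h4
  · have h2 : (R.card : ℂ) * (X : ℂ) + (d : ℂ) = (q : ℂ) * (n : ℂ) := by
      rw [hX]; rw [hd] at hn; linear_combination hn
    exact_mod_cast h2
  · have h2 : 2 * (R.card : ℂ) * (N : ℂ) + (d : ℂ) * d = (q : ℂ) * (m : ℂ) := by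
      rw [hN]
      rw [hd, Complex.normSq_natCast] at hm
      push_cast at hm
      linear_combination hm
    exact_mod_cast h2

/-- If a character vanishes on the products of `z` with the non-trivial elements of `⟨y⟩`, then
`χ z` is divisible by the order of `y`. -/
theorem isIntegral_div_of_zero (χ : Cfsg.IrrCharacter G) {y z : G} {q : ℕ} (hy : orderOf y = q)
    (hyz : Commute z y) (h : ∀ i < q, i ≠ 0 → (χ : G → ℂ) (z * y ^ i) = 0) :
    IsIntegral ℤ ((χ : G → ℂ) z / q) := by
  classical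
  have hzc : z ∈ Subgroup.centralizer (Subgroup.zpowers y : Set G) := by
    rw [Subgroup.mem_centralizer_iff]
    intro w hw
    obtain ⟨i, rfl⟩ := Subgroup.mem_zpowers_iff.mp hw
    exact ((hyz.zpow_right i).symm).eq
  have h1 := Cfsg.Agent.Lib.Blocks.isIntegral_average_coset χ (Subgroup.zpowers y) hzc
  convert h1 using 1
  rw [Nat.card_zpowers, hy, div_eq_inv_mul]
  congr 1
  rw [Finset.sum_eq_single (1 : Subgroup.zpowers y)]
  · simp
  · rintro ⟨w, hw⟩ _ hne
    obtain ⟨i, hi, rfl⟩ := Finset.mem_image.mp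
      ((IsOfFinOrder.mem_zpowers_iff_mem_range_orderOf (isOfFinOrder_of_finite y)).mp hw)
    rw [Finset.mem_range, hy] at hi
    refine h i hi ?_
    rintro rfl
    exact hne (Subtype.ext (pow_zero y))
  · intro hh
    exact absurd (Finset.mem_univ _) hh

end Cfsg.Agent.Lib.MathieuBlocks.NormData
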