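import Cfsg.Agent.Lib.MathieuBlocks.M24Elements
import Cfsg.Agent.Lib.MathieuBlocks.NormData
import Cfsg.Agent.Lib.Characters.Degree
import Cfsg.Agent.Lib.Golay.M24

/-!
# No irreducible degree of M24 is divisible by 1024
-/

set_option autoImplicit false

namespace Cfsg.Agent.Lib.MathieuBlocks.M24Degree

open Cfsg Cfsg.Agent.Lib.Computation Cfsg.Agent.Lib.Golay
open Cfsg.Agent.Lib.MathieuBlocks.Search Cfsg.Agent.Lib.MathieuBlocks.M24Elements
open Cfsg.Agent.Lib.MathieuBlocks.Values Cfsg.Agent.Lib.MathieuBlocks.NormData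
open Cfsg.Agent.Lib.Characters.Basic

theorem exists_element {x w n : ℕ} (hn : 0 < n) (h : elementOk x w n = true) :
    okCode x = true ∧ ∃ g : M24, (g : Equiv.Perm GolayPt) = gperm x ∧ orderOf g = n ∧
      IsConj g (g ^ 2) := by
  simp only [elementOk, Bool.and_eq_true, Bool.or_eq_true, Bool.not_eq_true', Nat.beq_eq,
    List.all_eq_true, List.mem_range] at h
  obtain ⟨⟨⟨⟨hx, hw⟩, hpw⟩, hne⟩, hconj⟩ := h
  have hxok : okCode x = true := okCode_of_inM24 hx
  have hwok : okCode w = true := okCode_of_inM24 hw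
  refine ⟨hxok, ⟨gperm x, gperm_mem_M24 hx⟩, rfl, (orderOf_eq_iff hn).mpr ⟨Subtype.ext ?_, ?_⟩,
    isConj_iff.mpr ⟨⟨gperm w, gperm_mem_M24 hw⟩, Subtype.ext ?_⟩⟩
  · push_cast
    rw [← (pwCode_spec hxok n).2, hpw, gperm_oneCode]
  · intro k hk hk0 e
    rcases hne k hk with h | h
    · omega
    · rw [← Bool.not_eq_true, Nat.beq_eq] at h
      apply h
      obtain ⟨j, rfl⟩ : ∃ j, k = j + 1 := ⟨k - 1, by omega⟩
      have e' : gperm (pwCode x (j + 1)) = gperm oneCode := by
        rw [(pwCode_spec hxok _).2, gperm_oneCode]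
        exact congrArg Subtype.val e
      have hget := fun i (hi : i < 24) =>
        Cfsg.Agent.Lib.FusionAlperin.MathieuCert.getW_eq_of_gperm (pwCode_spec hxok _).1
          okCode_oneCode e' (i := i) hi
      rw [pwCode] at hget ⊢
      unfold mulP oneCode at hget ⊢
      simp only [forceNat_eq] at hget ⊢
      refine Cfsg.Agent.Lib.FusionAlperin.MathieuCert.packW_congr fun i hi => ?_
      have h2 := hget i hi
      rw [getW_packW (fun a _ => by rw [getW_eq]; exact Nat.mod_lt _ (Nat.two_pow_pos 5)) hi,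
        getW_packW (fun a ha => by omega) hi] at h2
      exact h2
  · push_cast
    rw [mul_inv_eq_iff_eq_mul, ← (pwCode_spec hxok 2).2, ← gperm_mul hwok hxok, hconj,
      gperm_mul (pwCode_spec hxok 2).1 hwok]

theorem not_isConj_inv {x n : ℕ} {reps : List ℕ} {pos : List (ℕ × ℕ)} {first : List ℕ}
    {g : M24} (hg : (g : Equiv.Perm GolayPt) = gperm x) (hxok : okCode x = true)
    (hord : orderOf g = n) (hn : 0 < n)
    (h : certOk x (pwCode x (n - 1)) n reps pos first [] (fun _ => false) = true) :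
    ¬ IsConj g g⁻¹ := by
  intro hc
  obtain ⟨u, hu⟩ := isConj_iff.mp hc
  rw [inv_eq_pow hn hord, mul_inv_eq_iff_eq_mul] at hu
  have hu' := congrArg Subtype.val hu
  push_cast at hu'
  rw [hg, ← (pwCode_spec hxok _).2] at hu'
  obtain ⟨k, -, v, -, hv⟩ := cert_spec_gen h
    (by rw [(pwCode_spec hxok _).2, ← hg]; exact pow_mem g.2 _) (by simp) u.2 (by simp) hu'
  exact absurd hv (by simp)

/-- A bound on the centraliser from a certificate, allowing the listed fixed points to move. -/
theorem card_le_index {x n : ℕ} {reps : List ℕ} {pos : List (ℕ × ℕ)} {first fixd : List ℕ}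
    {g : M24} (hg : (g : Equiv.Perm GolayPt) = gperm x)
    (h : certOk x x n reps pos first fixd (fun c => Nat.beq c oneCode) = true)
    (F : Finset GolayPt) (hF : ∀ p, p ∈ F ↔ gperm x p = p) (hfix : ∀ r ∈ fixd, pt r ∈ F)
    (hfix' : fixd = [] ∨ ∀ p ∈ F, idx p ∈ fixd) {b : ℕ}
    (hb : (fixd = [] → n ≤ b) ∧ (fixd ≠ [] → n * (Nat.factorial F.card) ≤ b)) :
    244823040 ≤ b * (Subgroup.centralizer ({g} : Set M24)).index := by
  classical
  set C := Subgroup.centralizer ({g} : Set M24) with hC
  have hcomm : ∀ c : C, (c : M24).1 * gperm x = gperm x * (c : M24).1 := fun c => by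
    have := congrArg Subtype.val (Subgroup.mem_centralizer_singleton_iff.mp c.2)
    rwa [Subgroup.coe_mul, Subgroup.coe_mul, hg] at this
  have hgM : gperm x ∈ M24 := hg ▸ g.2
  have hxf : ∀ r ∈ fixd, gperm x (pt r) = pt r := fun r hr => (hF _).mp (hfix r hr)
  suffices hcard : Nat.card C ≤ b by
    have h1 := Subgroup.index_mul_card C
    rw [card_M24] at h1
    rw [← h1, mul_comm]
    exact Nat.mul_le_mul_right _ hcard
  have hker : ∀ S : Subgroup C, (∀ c ∈ S, ∀ r ∈ fixd, ((c : M24).1 : Equiv.Perm GolayPt) (pt r) = pt r) →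
      Nat.card S ≤ n := by
    intro S hS
    have hex : ∀ c : S, ∃ k : Fin n, ((c : C) : M24).1 = gperm x ^ (k : ℕ) := fun c => by
      obtain ⟨k, hk, e⟩ := exists_pow_of_cert h hgM hxf (c : C).1.2 (hS _ c.2) (hcomm _)
      exact ⟨⟨k, hk⟩, e⟩
    choose k hk using hex
    have := Nat.card_le_card_of_injective k fun a c hac => by
      refine Subtype.ext (Subtype.ext (Subtype.ext ?_))
      rw [hk a, hk c, hac]
    simpa using this
  rcases eq_or_ne fixd [] with rfl | hne
  · have := hker ⊤ (by simp)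
    rw [Subgroup.card_top] at this
    exact this.trans (hb.1 rfl)
  refine le_trans ?_ (hb.2 hne)
  have hinv : ∀ c : C, ∀ p, (c : M24).1 p ∈ F ↔ p ∈ F := fun c p => by
    rw [hF, hF, ← Equiv.Perm.mul_apply, ← hcomm c, Equiv.Perm.mul_apply]
    exact ⟨fun e => (c : M24).1.injective e, fun e => by rw [e]⟩
  let φ : C →* Equiv.Perm {p // p ∈ F} :=
    { toFun := fun c => (c : M24).1.subtypePerm (hinv c)
      map_one' := Equiv.ext fun p => Subtype.ext rfl
      map_mul' := fun a c => Equiv.ext fun p => Subtype.ext rfl }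
  have h1 := Subgroup.index_mul_card φ.ker
  rw [Subgroup.index_ker] at h1
  rw [← h1, mul_comm n]
  refine Nat.mul_le_mul ?_ (hker _ fun c hc r hr => ?_)
  · refine (Nat.card_le_card_of_injective _ Subtype.val_injective).trans ?_
    rw [Nat.card_perm, Nat.card_eq_fintype_card, Fintype.card_coe]
  · have := congrArg (fun e : Equiv.Perm {p // p ∈ F} => ((e ⟨pt r, hfix r hr⟩ : {p // p ∈ F}) : GolayPt))
      (MonoidHom.mem_ker.mp hc)
    exact this

open scoped Classical in
theorem index_le_card [Fintype M24] (g : M24) :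
    (Subgroup.centralizer ({g} : Set M24)).index ≤ (pmClass g).card := by
  classical
  rw [← card_class]
  exact Finset.card_le_card fun a ha => mem_pmClass.mpr (Or.inl (by simpa using ha))

set_option maxHeartbeats 2000000 in
open scoped Classical in
/-- No irreducible degree is divisible by 1024. -/
theorem not_dvd_degree (χ : Cfsg.IrrCharacter M24) :
    ¬ 1024 ∣ Cfsg.charDegree (χ : M24 → ℂ) := by
  classical
  intro hdvd
  haveI := Fintype.ofFinite M24
  obtain ⟨d, hd0, hdG, hd1⟩ := Cfsg.Agent.Lib.Characters.Degree.exists_degree_dvd χ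
  rw [card_M24] at hdG
  have hdd : Cfsg.charDegree (χ : M24 → ℂ) = d := by
    rw [Cfsg.charDegree, hd1]; simp
  rw [hdd] at hdvd
  have hχ := isCharacter_irr χ
  obtain ⟨hk5, a, ha, ha5, hs5⟩ := exists_element (by norm_num) element5
  obtain ⟨hk7, b, hb, hb7, hs7⟩ := exists_element (by norm_num) element7
  obtain ⟨hk11, c, hc, hc11, hs11⟩ := exists_element (by norm_num) element11
  obtain ⟨hk15, u, hu, hu15, hs15⟩ := exists_element (by norm_num) element15
  obtain ⟨hk21, v, hv, hv21, hs21⟩ := exists_element (by norm_num) element21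
  obtain ⟨hk23, e, he, he23, hs23⟩ := exists_element (by norm_num) element23
  have hFx : ∀ {x : ℕ} (hok : okCode x = true) (p : GolayPt),
      p ∈ setOfMask (Cfsg.Agent.Lib.FusionAlperin.MathieuCert.fixMask x) ↔ gperm x p = p :=
    fun hok p => by rw [mem_setOfMask, Cfsg.Agent.Lib.FusionAlperin.MathieuCert.mem_fixMask hok]
  -- class sizes
  have n5 : 2040192 ≤ (pmClass a).card := by
    have h1 := card_le_index ha cent5 _ (hFx hk5) (by decide +kernel) (Or.inr (by decide +kernel))
      (b := 120) ⟨fun _ => by norm_num, fun _ => by rw [card_setOfMask]; decide +kernel⟩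
    have := index_le_card a
    omega
  have n7 : 11658240 ≤ (pmClass b).card := by
    have h1 := card_le_index hb cent7 _ (hFx hk7) (by decide +kernel) (Or.inr (by decide +kernel))
      (b := 42) ⟨fun _ => by norm_num, fun _ => by rw [card_setOfMask]; decide +kernel⟩
    rw [card_pmClass_of_not_isConj (not_isConj_inv hb hk7 hb7 (by norm_num) noInv7)]
    omega
  have n11 : 22256640 ≤ (pmClass c).card := by
    have h1 := card_le_index hc cent11 _ (hFx hk11) (by simp) (Or.inl rfl)
      (b := 11) ⟨fun _ => le_rfl, fun h => absurd rfl h⟩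
    have := index_le_card c
    omega
  have n15 : 32643072 ≤ (pmClass u).card := by
    have h1 := card_le_index hu cent15 _ (hFx hk15) (by simp) (Or.inl rfl)
      (b := 15) ⟨fun _ => le_rfl, fun h => absurd rfl h⟩
    rw [card_pmClass_of_not_isConj (not_isConj_inv hu hk15 hu15 (by norm_num) noInv15)]
    omega
  have n21 : 23316480 ≤ (pmClass v).card := by
    have h1 := card_le_index hv cent21 _ (hFx hk21) (by simp) (Or.inl rfl)
      (b := 21) ⟨fun _ => le_rfl, fun h => absurd rfl h⟩
    rw [card_pmClass_of_not_isConj (not_isConj_inv hv hk21 hv21 (by norm_num) noInv21)]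
    omega
  have n23 : 21288960 ≤ (pmClass e).card := by
    have h1 := card_le_index he cent23 _ (hFx hk23) (by simp) (Or.inl rfl)
      (b := 23) ⟨fun _ => le_rfl, fun h => absurd rfl h⟩
    rw [card_pmClass_of_not_isConj (not_isConj_inv he hk23 he23 (by norm_num) noInv23)]
    omega
  -- relations between the elements
  have hparts : x5 = pwCode x15 6 ∧ x7 = pwCode x21 15 := by
    have h := parts
    simp only [Bool.and_eq_true, Nat.beq_eq] at h
    exact h
  have hau : a = u ^ 6 := Subtype.ext (by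
    rw [Subgroup.coe_pow, ha, hu, hparts.1, (pwCode_spec hk15 6).2])
  have hbv : b = v ^ 15 := Subtype.ext (by
    rw [Subgroup.coe_pow, hb, hv, hparts.2, (pwCode_spec hk21 15).2])
  have cov15 : CoveredU u 15 := coveredU_of_step (by norm_num) hu15 hs15 (by decide +kernel)
  have cov21 : CoveredU v 21 := coveredU_of_step (by norm_num) hv21 hs21 (by decide +kernel)
  -- values at elements of prime order
  have hstep : ∀ {g : M24} {q : ℕ}, 0 < q → orderOf g = q → IsConj g (g ^ 2) → ∀ R : Finset ℕ,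
      (∀ k ∈ R, ∃ i < q, 2 ^ i % q = k) → ∀ k ∈ R, IsConj g (g ^ k) := by
    intro g q hq hg hg2 R hR k hk
    obtain ⟨i, -, rfl⟩ := hR k hk
    have h1 := isConj_pow_iterate hg2 i
    rwa [← pow_mod_orderOf g (2 ^ i), hg] at h1
  obtain ⟨X23, N23, -, hN23, hXN23, hX23, hM23⟩ := exists_trace_norm hχ he23 hd1
    ({1, 2, 3, 4, 6, 8, 9, 12, 13, 16, 18} : Finset ℕ)
    (hstep (by norm_num) he23 hs23 _ (by decide +kernel)) (by decide +kernel) (by decide +kernel)
    (by decide +kernel) (by decide +kernel)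
  obtain ⟨X11, N11, -, hN11, hXN11, hX11, hM11⟩ := exists_trace_norm hχ hc11 hd1
    ({1, 2, 3, 4, 5} : Finset ℕ)
    (hstep (by norm_num) hc11 hs11 _ (by decide +kernel)) (by decide +kernel) (by decide +kernel)
    (by decide +kernel) (by decide +kernel)
  obtain ⟨X7, N7, -, hN7, hXN7, hX7, hM7⟩ := exists_trace_norm hχ hb7 hd1
    ({1, 2, 4} : Finset ℕ)
    (hstep (by norm_num) hb7 hs7 _ (by decide +kernel)) (by decide +kernel) (by decide +kernel)
    (by decide +kernel) (by decide +kernel)
  obtain ⟨X5, N5, -, hN5, hXN5, hX5, hM5⟩ := exists_trace_norm hχ ha5 hd1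
    ({1, 2} : Finset ℕ)
    (hstep (by norm_num) ha5 hs5 _ (by decide +kernel)) (by decide +kernel) (by decide +kernel)
    (by decide +kernel) (by decide +kernel)
  simp only [show ({1, 2, 3, 4, 6, 8, 9, 12, 13, 16, 18} : Finset ℕ).card = 11 by decide +kernel]
    at hX23 hM23
  simp only [show ({1, 2, 3, 4, 5} : Finset ℕ).card = 5 by decide +kernel] at hX11 hM11
  simp only [show ({1, 2, 4} : Finset ℕ).card = 3 by decide +kernel] at hX7 hM7
  simp only [show ({1, 2} : Finset ℕ).card = 2 by decide +kernel] at hX5 hM5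
  -- the inequality
  have hord : ∀ {g : M24}, 1 < orderOf g → (1 : M24) ∉ pmClass g := fun {g} hg h => by
    have := orderOf_of_mem_pmClass h
    rw [orderOf_one] at this
    omega
  set f := fun g => Complex.normSq ((χ : M24 → ℂ) g)
  have htot := sum_normSq_irr χ
  rw [card_M24] at htot
  have hle : f 1 + (∑ g ∈ pmClass e, f g + ∑ g ∈ pmClass c, f g + ∑ g ∈ pmClass b, f g +
      ∑ g ∈ pmClass a, f g + ∑ g ∈ pmClass u, f g + ∑ g ∈ pmClass v, f g) ≤ (244823040 : ℝ) := by
    have hD : ∀ {g g' : M24}, orderOf g ≠ orderOf g' → Disjoint (pmClass g) (pmClass g') :=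
      fun h => disjoint_pmClass h
    rw [← Finset.sum_union (hD (by omega)), ← Finset.sum_union, ← Finset.sum_union,
      ← Finset.sum_union, ← Finset.sum_union, ← Finset.sum_insert (s := _ ∪ _)]
    · calc _ ≤ ∑ g, f g := Finset.sum_le_sum_of_subset_of_nonneg (Finset.subset_univ _)
            fun g _ _ => Complex.normSq_nonneg _
        _ = 244823040 := by rw [htot]; norm_num
    · simp only [Finset.mem_union, not_or]
      exact ⟨⟨⟨⟨⟨hord (by omega), hord (by omega)⟩, hord (by omega)⟩, hord (by omega)⟩,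
        hord (by omega)⟩, hord (by omega)⟩
    all_goals simp only [Finset.disjoint_union_left]
    all_goals (repeat' apply And.intro) <;> exact hD (by omega)
  have hs : ∀ g, ∑ x ∈ pmClass g, f x = (pmClass g).card * Complex.normSq ((χ : M24 → ℂ) g) :=
    fun g => sum_normSq_pmClass hχ g
  have hlb : ∀ g (B : ℕ) (N : ℤ) (k : ℕ), B ≤ (pmClass g).card → (k : ℤ) ≤ N →
      (N : ℝ) = Complex.normSq ((χ : M24 → ℂ) g) → ((B * k : ℕ) : ℝ) ≤ ∑ x ∈ pmClass g, f x := by
    intro g B N k hB hk hN
    rw [hs, ← hN, Nat.cast_mul]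
    exact mul_le_mul (by exact_mod_cast hB) (by exact_mod_cast hk) (Nat.cast_nonneg _)
      (Nat.cast_nonneg _)
  have hnn : ∀ T : Finset M24, 0 ≤ ∑ g ∈ T, f g :=
    fun T => Finset.sum_nonneg fun g _ => Complex.normSq_nonneg _
  have hf1 : f 1 = (d : ℝ) * d := by
    show Complex.normSq ((χ : M24 → ℂ) 1) = _
    rw [hd1, Complex.normSq_natCast]
  rw [hf1] at hle
  -- the possible degrees
  have hdsmall : d < 15647 := by
    by_contra hbig
    have h1 : (15647 : ℝ) ≤ d := by exact_mod_cast not_lt.mp hbig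
    nlinarith [hnn (pmClass a), hnn (pmClass b), hnn (pmClass c), hnn (pmClass u),
      hnn (pmClass v), hnn (pmClass e)]
  obtain ⟨j, rfl⟩ := hdvd
  have hj : j = 1 ∨ j = 3 ∨ j = 5 ∨ j = 7 ∨ j = 9 ∨ j = 11 ∨ j = 15 := by
    have hj16 : j < 16 := by omega
    clear * - hj16 hdG
    interval_cases j <;> first | decide | norm_num at hdG
  have hsmallX : ∀ {X N : ℤ} {B : ℕ}, X * X ≤ 4 * N → N < B → B ≤ 40 → -12 ≤ X ∧ X ≤ 12 := by
    intro X N B h1 h2 h3
    constructor <;> nlinarith
  have h23 : ∀ B : ℕ, B ≤ 40 → (∀ X N : ℤ, -12 ≤ X → X ≤ 12 → X * X ≤ 4 * N → N < B →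
      (23 : ℤ) ∣ 11 * X + (1024 * j : ℕ) → (23 : ℤ) ∣ 2 * 11 * N + (1024 * j : ℕ) * (1024 * j : ℕ) →
      False) → ((21288960 * B : ℕ) : ℝ) ≤ ∑ x ∈ pmClass e, f x := by
    intro B hB h
    refine hlb e _ N23 B n23 ?_ hN23
    by_contra hlt
    obtain ⟨h1, h2⟩ := hsmallX hXN23 (not_le.mp hlt) hB
    exact h X23 N23 h1 h2 hXN23 (not_le.mp hlt) (by exact_mod_cast hX23) (by exact_mod_cast hM23)
  have hkey : ∀ {J B : ℕ}, j = J → B ≤ 40 → (∀ X N : ℤ, -12 ≤ X → X ≤ 12 → X * X ≤ 4 * N → N < B →
      (23 : ℤ) ∣ 11 * X + (1024 * J : ℕ) → (23 : ℤ) ∣ 2 * 11 * N + (1024 * J : ℕ) * (1024 * J : ℕ) →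
      False) → ((21288960 * B : ℕ) : ℝ) ≤ ∑ x ∈ pmClass e, f x := by
    intro J B hJ
    subst hJ
    exact h23 B
  push_cast at hle hM11 hM7 hM5 hX11 hX7 hX5
  rcases hj with rfl | rfl | rfl | rfl | rfl | rfl | rfl
  · -- degree 1024
    have l23 := hkey (J := 1) (B := 6) rfl (by norm_num) (fun X N h1 h2 h3 h4 h5 h6 => by
      interval_cases X <;> omega)
    have l11 := hlb c _ N11 1 n11 (by
      by_contra hlt
      have : 0 ≤ N11 := by nlinarith [mul_self_nonneg X11]
      omega) hN11
    have hN7' : 4 ≤ N7 := by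
      by_contra hlt
      have : 0 ≤ N7 := by nlinarith [mul_self_nonneg X7]
      omega
    have hdiv : ∀ (z : M24) (N : ℤ), (N : ℝ) = Complex.normSq ((χ : M24 → ℂ) z) →
        IsIntegral ℤ ((χ : M24 → ℂ) z / (3 : ℕ)) → (9 : ℤ) ∣ N := by
      intro z N hN hint
      have hint' : IsIntegral ℤ ((starRingEnd ℂ) ((χ : M24 → ℂ) z / (3 : ℕ))) :=
        map_isIntegral_int (starRingEnd ℂ) hint
      obtain ⟨m, hm⟩ := exists_int_of_rat (hint.mul hint') ((N : ℚ) / 9) (by
        push_cast
        rw [map_div₀, map_ofNat, div_mul_div_comm, Complex.mul_conj, ← hN]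
        push_cast
        norm_num)
      refine ⟨m, ?_⟩
      have h2 : (N : ℂ) = 9 * (m : ℂ) := by
        rw [hm]
        push_cast
        rw [map_div₀, map_ofNat, div_mul_div_comm, Complex.mul_conj, ← hN]
        push_cast
        ring
      exact_mod_cast h2
    by_cases hv0 : (χ : M24 → ℂ) v = 0
    · -- zero at the elements of order 21
      have h9 := hdiv b N7 hN7 (by
        refine isIntegral_div_of_zero χ (y := v ^ 7) ?_ (hbv ▸ Commute.pow_pow_self v 15 7)
          fun i hi hi0 => ?_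
        · rw [orderOf_pow' v (by norm_num), hv21]; rfl
        · rw [hbv, ← pow_mul, ← pow_add]
          have hcop : (15 + 7 * i).Coprime 21 := by interval_cases i <;> first | omega | decide
          rcases cov21 _ hcop with h | h
          · rw [← apply_eq_of_isConj hχ h, hv0]
          · rw [← apply_eq_of_isConj hχ h, conj_apply_inv hχ, hv0, map_zero])
      have l7 := hlb b _ N7 18 n7 (by omega) hN7
      push_cast at l23 l11 l7
      nlinarith [hnn (pmClass a), hnn (pmClass u), hnn (pmClass v)]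
    by_cases hu0 : (χ : M24 → ℂ) u = 0
    · -- zero at the elements of order 15
      have h9 := hdiv a N5 hN5 (by
        refine isIntegral_div_of_zero χ (y := u ^ 5) ?_ (hau ▸ Commute.pow_pow_self u 6 5)
          fun i hi hi0 => ?_
        · rw [orderOf_pow' u (by norm_num), hu15]; rfl
        · rw [hau, ← pow_mul, ← pow_add]
          have hcop : (6 + 5 * i).Coprime 15 := by interval_cases i <;> first | omega | decide
          rcases cov15 _ hcop with h | h
          · rw [← apply_eq_of_isConj hχ h, hu0]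
          · rw [← apply_eq_of_isConj hχ h, conj_apply_inv hχ, hu0, map_zero])
      have l5 := hlb a _ N5 36 n5 (by
        have : 0 ≤ N5 := by nlinarith [mul_self_nonneg X5]
        omega) hN5
      have l7 := hlb b _ N7 4 n7 hN7' hN7
      push_cast at l23 l11 l7 l5
      nlinarith [hnn (pmClass u), hnn (pmClass v)]
    · have l15 : ((32643072 : ℕ) : ℝ) ≤ ∑ g ∈ pmClass u, f g :=
        (Nat.cast_le.mpr n15).trans (card_le_of_ne hχ hu15 cov15 hu0)
      have l21 : ((23316480 : ℕ) : ℝ) ≤ ∑ g ∈ pmClass v, f g :=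
        (Nat.cast_le.mpr n21).trans (card_le_of_ne hχ hv21 cov21 hv0)
      have l7 := hlb b _ N7 4 n7 hN7' hN7
      push_cast at l23 l11 l7 l15 l21
      nlinarith [hnn (pmClass a)]
  · -- degree 3072
    have l23 := hkey (J := 3) (B := 8) rfl (by norm_num) (fun X N h1 h2 h3 h4 h5 h6 => by
      interval_cases X <;> omega)
    have l11 := hlb c _ N11 9 n11 (by
      by_contra hlt
      have : 0 ≤ N11 := by nlinarith [mul_self_nonneg X11]
      omega) hN11
    push_cast at l23 l11
    nlinarith [hnn (pmClass a), hnn (pmClass b), hnn (pmClass u), hnn (pmClass v)]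
  · have l23 := hkey (J := 5) (B := 12) rfl (by norm_num) (fun X N h1 h2 h3 h4 h5 h6 => by
      interval_cases X <;> omega)
    push_cast at l23
    nlinarith [hnn (pmClass a), hnn (pmClass b), hnn (pmClass c), hnn (pmClass u), hnn (pmClass v)]
  · have l23 := hkey (J := 7) (B := 16) rfl (by norm_num) (fun X N h1 h2 h3 h4 h5 h6 => by
      interval_cases X <;> omega)
    push_cast at l23
    nlinarith [hnn (pmClass a), hnn (pmClass b), hnn (pmClass c), hnn (pmClass u), hnn (pmClass v)]
  · have l23 := hkey (J := 9) (B := 16) rfl (by norm_num) (fun X N h1 h2 h3 h4 h5 h6 => by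
      interval_cases X <;> omega)
    push_cast at l23
    nlinarith [hnn (pmClass a), hnn (pmClass b), hnn (pmClass c), hnn (pmClass u), hnn (pmClass v)]
  · have l23 := hkey (J := 11) (B := 16) rfl (by norm_num) (fun X N h1 h2 h3 h4 h5 h6 => by
      interval_cases X <;> omega)
    push_cast at l23
    nlinarith [hnn (pmClass a), hnn (pmClass b), hnn (pmClass c), hnn (pmClass u), hnn (pmClass v)]
  · have l23 := hkey (J := 15) (B := 12) rfl (by norm_num) (fun X N h1 h2 h3 h4 h5 h6 => by
      interval_cases X <;> omega)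
    push_cast at l23
    nlinarith [hnn (pmClass a), hnn (pmClass b), hnn (pmClass c), hnn (pmClass u), hnn (pmClass v)]

end Cfsg.Agent.Lib.MathieuBlocks.M24Degree
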