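import Cfsg.Agent.Lib.MathieuBlocks.Search

/-!
# Elements of order 5, 7, 11, 15, 21, 23 of M24
-/

set_option autoImplicit false
set_option maxRecDepth 8000

namespace Cfsg.Agent.Lib.MathieuBlocks.M24Elements

open Cfsg Cfsg.Agent.Lib.Computation Cfsg.Agent.Lib.Golay Cfsg.Agent.Lib.MathieuBlocks.Search

/-- An element of order 5. -/
def x5 : ℕ := 933810203959729011296398507746900000

/-- An element conjugating it to its square. -/
def w5 : ℕ := 474167865407350707520089424041969920

/-- Representatives of its cycles. -/
def reps5 : List ℕ := [2, 5, 9, 12, 0, 1, 3, 8]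

/-- Positions of the points in its cycles. -/
def pos5 : List (ℕ × ℕ) := [(4, 0), (5, 0), (0, 0), (6, 0), (0, 4), (1, 0), (0, 3), (1, 4), (7, 0), (2, 0), (1, 1), (2, 4), (3, 0), (2, 1), (0, 1), (3, 3), (1, 3), (1, 2), (2, 2), (2, 3), (0, 2), (3, 4), (3, 2), (3, 1)]

/-- The representatives of its non-trivial cycles. -/
def first5 : List ℕ := [2, 5, 9, 12]

/-- An element of order 7. -/
def x7 : ℕ := 693403851281437283393609320068961409

/-- An element conjugating it to its square. -/
def w7 : ℕ := 735469731304957388524622537473241216

/-- Representatives of its cycles. -/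
def reps7 : List ℕ := [0, 2, 3, 9, 14, 22]

/-- Positions of the points in its cycles. -/
def pos7 : List (ℕ × ℕ) := [(0, 0), (0, 1), (1, 0), (2, 0), (0, 2), (1, 2), (0, 6), (2, 6), (1, 5), (3, 0), (0, 3), (2, 5), (1, 4), (1, 3), (4, 0), (0, 4), (2, 3), (2, 4), (1, 6), (0, 5), (2, 1), (1, 1), (5, 0), (2, 2)]

/-- The representatives of its non-trivial cycles. -/
def first7 : List ℕ := [0, 2, 3]

/-- An element of order 11. -/
def x11 : ℕ := 315784538243918988981015407149787494

/-- An element conjugating it to its square. -/
def w11 : ℕ := 840598629512428147670837015887716450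

/-- Representatives of its cycles. -/
def reps11 : List ℕ := [0, 2, 9, 17]

/-- Positions of the points in its cycles. -/
def pos11 : List (ℕ × ℕ) := [(0, 0), (0, 2), (1, 0), (1, 4), (1, 2), (1, 7), (0, 1), (0, 5), (0, 9), (2, 0), (1, 1), (0, 3), (0, 7), (0, 10), (1, 6), (0, 6), (1, 3), (3, 0), (1, 5), (1, 10), (1, 8), (0, 8), (1, 9), (0, 4)]

/-- The representatives of its non-trivial cycles. -/
def first11 : List ℕ := [0, 2]

/-- An element of order 15. -/
def x15 : ℕ := 727153999625047718344478335329129507

/-- An element conjugating it to its square. -/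
def w15 : ℕ := 303958030592021033161410397891299368

/-- Representatives of its cycles. -/
def reps15 : List ℕ := [2, 9, 0, 1]

/-- Positions of the points in its cycles. -/
def pos15 : List (ℕ × ℕ) := [(2, 0), (3, 0), (0, 0), (2, 1), (0, 9), (0, 2), (0, 3), (0, 11), (2, 2), (1, 0), (0, 8), (1, 4), (0, 7), (1, 1), (0, 6), (0, 10), (0, 5), (0, 14), (1, 2), (1, 3), (0, 12), (0, 1), (0, 4), (0, 13)]

/-- The representatives of its non-trivial cycles. -/
def first15 : List ℕ := [2, 9, 0]

/-- An element of order 21. -/
def x21 : ℕ := 766117613436844347995016249899110132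

/-- An element conjugating it to its square. -/
def w21 : ℕ := 112293966047331005561518820827779200

/-- Representatives of its cycles. -/
def reps21 : List ℕ := [0, 9]

/-- Positions of the points in its cycles. -/
def pos21 : List (ℕ × ℕ) := [(0, 0), (0, 15), (0, 11), (0, 7), (0, 9), (0, 20), (0, 6), (0, 13), (0, 2), (1, 0), (0, 3), (0, 19), (0, 8), (0, 14), (1, 2), (0, 18), (0, 10), (0, 4), (0, 17), (0, 12), (0, 1), (0, 5), (1, 1), (0, 16)]

/-- The representatives of its non-trivial cycles. -/
def first21 : List ℕ := [0, 9]

/-- An element of order 23. -/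
def x23 : ℕ := 584973077898035269534057193615248522

/-- An element conjugating it to its square. -/
def w23 : ℕ := 802946814229307217261221842874636352

/-- Representatives of its cycles. -/
def reps23 : List ℕ := [0, 3]

/-- Positions of the points in its cycles. -/
def pos23 : List (ℕ × ℕ) := [(0, 0), (0, 18), (0, 13), (1, 0), (0, 19), (0, 22), (0, 3), (0, 17), (0, 9), (0, 4), (0, 1), (0, 5), (0, 15), (0, 16), (0, 8), (0, 6), (0, 2), (0, 21), (0, 20), (0, 14), (0, 11), (0, 10), (0, 12), (0, 7)]

/-- The representatives of its non-trivial cycles. -/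
def first23 : List ℕ := [0]

/-- The points fixed by `x5`. -/
def fix5 : List ℕ := [0, 1, 3, 8]

/-- The points fixed by `x7`. -/
def fix7 : List ℕ := [9, 14, 22]

/-- The facts checked on an element. -/
def elementOk (x w q : ℕ) : Bool :=
  inM24 x && inM24 w && Nat.beq (pwCode x q) oneCode &&
    ((List.range q).all fun k => Nat.beq k 0 || !Nat.beq (pwCode x k) oneCode) &&
    Nat.beq (mulP 24 5 w x) (mulP 24 5 (pwCode x 2) w)

theorem element5 : elementOk x5 w5 5 = true := by decide +kernel

theorem cent5 : certOk x5 x5 5 reps5 pos5 first5 fix5 (fun c => Nat.beq c oneCode) = true := by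
  decide +kernel

theorem element7 : elementOk x7 w7 7 = true := by decide +kernel

theorem cent7 : certOk x7 x7 7 reps7 pos7 first7 fix7 (fun c => Nat.beq c oneCode) = true := by
  decide +kernel

theorem noInv7 : certOk x7 (pwCode x7 6) 7 reps7 pos7 first7 [] (fun _ => false) = true := by
  decide +kernel

theorem element11 : elementOk x11 w11 11 = true := by decide +kernel

theorem cent11 : certOk x11 x11 11 reps11 pos11 first11 [] (fun c => Nat.beq c oneCode) = true := by
  decide +kernel

theorem element15 : elementOk x15 w15 15 = true := by decide +kernel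

theorem cent15 : certOk x15 x15 15 reps15 pos15 first15 [] (fun c => Nat.beq c oneCode) = true := by
  decide +kernel

theorem noInv15 : certOk x15 (pwCode x15 14) 15 reps15 pos15 first15 [] (fun _ => false) = true := by
  decide +kernel

theorem element21 : elementOk x21 w21 21 = true := by decide +kernel

theorem cent21 : certOk x21 x21 21 reps21 pos21 first21 [] (fun c => Nat.beq c oneCode) = true := by
  decide +kernel

theorem noInv21 : certOk x21 (pwCode x21 20) 21 reps21 pos21 first21 [] (fun _ => false) = true := by
  decide +kernel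

theorem element23 : elementOk x23 w23 23 = true := by decide +kernel

theorem cent23 : certOk x23 x23 23 reps23 pos23 first23 [] (fun c => Nat.beq c oneCode) = true := by
  decide +kernel

theorem noInv23 : certOk x23 (pwCode x23 22) 23 reps23 pos23 first23 [] (fun _ => false) = true := by
  decide +kernel

theorem parts : (Nat.beq x5 (pwCode x15 6) && Nat.beq x7 (pwCode x21 15)) = true := by decide +kernel

end Cfsg.Agent.Lib.MathieuBlocks.M24Elements
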