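import Cfsg.Agent.Lib.FusionAlperin.MathieuCert
import Cfsg.Agent.Lib.FusionAlperin.M24Data
import Cfsg.Agent.Lib.MathieuBlocks.OctadCentralizer
import Cfsg.Agent.Lib.MathieuBlocks.M24LocalData
import Cfsg.Agent.Lib.MathieuBlocks.M22Local

/-!
# Involutions of M24 have a self-centralising normal two-subgroup in their centraliser

For an involution with fixed points it is the pointwise stabiliser of the octad of fixed points;
for the others it is the kernel on six blocks of four points, two points lying in one block when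
two invariant octads contain both.
-/

set_option autoImplicit false
set_option maxRecDepth 8000

namespace Cfsg.Agent.Lib.MathieuBlocks.M24Local

open Cfsg Cfsg.Agent.Lib.Computation Cfsg.Agent.Lib.Golay
open Cfsg.Agent.Lib.FusionAlperin.MathieuCert
open Cfsg.Agent.Lib.MathieuBlocks.OctadCentralizer Cfsg.Agent.Lib.MathieuBlocks.M24LocalData
open Cfsg.Agent.Lib.MathieuBlocks.M22Local (fixSet mem_fixSet smul_fixSet_eq)
open scoped Pointwise

/-- The block of an index. -/
def blk (i : ℕ) : ℕ := labels.getD i 0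

/-! ### checks -/

theorem groupOk24 : groupOk inM24 Cfsg.Agent.Lib.FusionAlperin.M24Data.gens
    Cfsg.Agent.Lib.FusionAlperin.M24Data.els = true := by decide +kernel

theorem card_els : (Cfsg.Agent.Lib.FusionAlperin.M24Data.els.map Prod.fst).length = 2 ^ 10 := by
  decide +kernel

theorem involutions_cases : ((Cfsg.Agent.Lib.FusionAlperin.M24Data.els.map Prod.fst).all fun c =>
    Nat.beq c oneCode || !Nat.beq (mulP 24 5 c c) oneCode ||
      (inCode (fixMask c) && Nat.beq (pc24 (fixMask c)) 8) ||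
      witnesses.any fun e => Nat.beq e.1 c) = true := by decide +kernel

theorem witnesses_ok : (witnesses.all fun e => inM24 e.2 && okCode e.1 &&
    Nat.beq (mulP 24 5 e.2 z0) (mulP 24 5 e.1 e.2)) = true := by decide +kernel

theorem invOcts_ok : (invOcts.all fun m =>
    inCode m && Nat.beq (pc24 m) 8 && Nat.beq (permMask z0 m) m) = true := by decide +kernel

theorem invOcts_complete : ((List.range 4096).all fun k => forceNat (enc k) fun m =>
    !Nat.beq (pc24 m) 8 || !Nat.beq (permMask z0 m) m || invOcts.any fun o => Nat.beq o m) = true := by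
  decide +kernel

theorem blocks_ok : ((List.range 24).all fun i => (List.range 24).all fun j =>
    Nat.beq (blk i) (blk j) == invOcts.any fun a => invOcts.any fun b =>
      !Nat.beq a b && a.testBit i && a.testBit j && b.testBit i && b.testBit j) = true := by
  decide +kernel

theorem seps_ok : (seps.all fun c => inM24 c && Nat.beq (mulP 24 5 c z0) (mulP 24 5 z0 c) &&
    (List.range 24).all fun i => Nat.beq (blk (getW 5 c i)) (blk i)) = true := by decide +kernel

theorem seps_separate : ((List.range 24).all fun i => (List.range 24).all fun j =>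
    Nat.beq (blk i) (blk j) ||
      seps.any fun c => Nat.beq (getW 5 c i) i && !Nat.beq (getW 5 c j) j) = true := by
  decide +kernel

theorem z0_ok : (inM24 z0 && Nat.beq (mulP 24 5 z0 z0) oneCode &&
    (List.range 24).all fun i => !Nat.beq (getW 5 z0 i) i &&
      Nat.beq (blk (getW 5 z0 i)) (blk i)) = true := by decide +kernel

theorem blocks_four : ((List.range 24).all fun i =>
    Nat.beq ((List.range 24).countP fun j => Nat.beq (blk i) (blk j)) 4) = true := by decide +kernel

/-! ### the property -/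

/-- An element of M24 with a normal two-subgroup in its centraliser containing its own
centraliser there. -/
def Local (z : Equiv.Perm GolayPt) : Prop :=
  ∃ Q : Subgroup (Equiv.Perm GolayPt), Q ≤ M24 ∧ IsPGroup 2 Q ∧ (∀ q ∈ Q, q * z = z * q) ∧
    (∀ a ∈ M24, a * z = z * a → ∀ q ∈ Q, a * q * a⁻¹ ∈ Q) ∧
    (∀ a ∈ M24, a * z = z * a → (∀ q ∈ Q, a * q = q * a) → a ∈ Q)

theorem Local.conj {z a : Equiv.Perm GolayPt} (ha : a ∈ M24) (h : Local z) :
    Local (a * z * a⁻¹) := by
  obtain ⟨Q, hQM, hQp, hQc, hQn, hQs⟩ := h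
  have hback : ∀ b : Equiv.Perm GolayPt, b * (a * z * a⁻¹) = (a * z * a⁻¹) * b →
      (a⁻¹ * b * a) * z = z * (a⁻¹ * b * a) := by
    intro b hb
    calc (a⁻¹ * b * a) * z = a⁻¹ * (b * (a * z * a⁻¹)) * a := by group
      _ = a⁻¹ * ((a * z * a⁻¹) * b) * a := by rw [hb]
      _ = z * (a⁻¹ * b * a) := by group
  have hbM : ∀ b ∈ M24, a⁻¹ * b * a ∈ M24 := fun b hb => mul_mem (mul_mem (inv_mem ha) hb) ha
  refine ⟨Q.map (MulAut.conj a).toMonoidHom, ?_, hQp.map _, ?_, ?_, ?_⟩
  · rintro _ ⟨q, hq, rfl⟩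
    exact mul_mem (mul_mem ha (hQM hq)) (inv_mem ha)
  · rintro _ ⟨q, hq, rfl⟩
    show a * q * a⁻¹ * (a * z * a⁻¹) = a * z * a⁻¹ * (a * q * a⁻¹)
    calc a * q * a⁻¹ * (a * z * a⁻¹) = a * (q * z) * a⁻¹ := by group
      _ = _ := by rw [hQc q hq]; group
  · rintro b hb hbz _ ⟨q, hq, rfl⟩
    refine ⟨_, hQn _ (hbM b hb) (hback b hbz) q hq, ?_⟩
    show a * (a⁻¹ * b * a * q * (a⁻¹ * b * a)⁻¹) * a⁻¹ = b * (a * q * a⁻¹) * b⁻¹
    group
  · intro b hb hbz hall
    refine ⟨a⁻¹ * b * a, hQs _ (hbM b hb) (hback b hbz) fun q hq => ?_, ?_⟩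
    · have h1 : b * (a * q * a⁻¹) = a * q * a⁻¹ * b := hall _ ⟨q, hq, rfl⟩
      calc a⁻¹ * b * a * q = a⁻¹ * (b * (a * q * a⁻¹)) * a := by group
        _ = a⁻¹ * (a * q * a⁻¹ * b) * a := by rw [h1]
        _ = q * (a⁻¹ * b * a) := by group
    · show a * (a⁻¹ * b * a) * a⁻¹ = b
      group

theorem smul_fixSet_of_commute {a z : Equiv.Perm GolayPt} (h : a * z = z * a) :
    a • fixSet z = fixSet z := by
  rw [smul_fixSet_eq, h, mul_inv_cancel_right]

/-- An involution whose fixed points form an octad. -/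
theorem local_fix {z : Equiv.Perm GolayPt} (hz : z ∈ M24) (ho : fixSet z ∈ octads) : Local z := by
  have hzQ : z ∈ octadFix (fixSet z) := mem_octadFix.mpr ⟨hz, fun p hp => mem_fixSet.mp hp⟩
  have hinv : ∀ g ∈ octadFix (fixSet z), g⁻¹ = g := fun g hg =>
    inv_eq_of_mul_eq_one_right ((octadFix_spec ho).2 g hg)
  refine ⟨octadFix (fixSet z), fun g hg => (mem_octadFix.mp hg).1,
    IsPGroup.of_card (n := 4) (by rw [(octadFix_spec ho).1]; norm_num), fun q hq => ?_,
    fun a ha haz q hq => ?_,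
    fun a ha haz hall => mem_octadFix_of_commute ho ha (smul_fixSet_of_commute haz) hall⟩
  · have h := hinv _ (mul_mem hq hzQ)
    rw [mul_inv_rev, hinv _ hq, hinv _ hzQ] at h
    exact h.symm
  · rw [octadFix_conj ha (smul_fixSet_of_commute haz)]
    exact ⟨q, hq, rfl⟩

/-! ### the fixed-point-free involution -/

/-- Two points lie in two common octads invariant under `z`. -/
def Rel (z : Equiv.Perm GolayPt) (p q : GolayPt) : Prop :=
  ∃ o ∈ octads, ∃ o' ∈ octads, o ≠ o' ∧ z • o = o ∧ z • o' = o' ∧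
    p ∈ o ∧ q ∈ o ∧ p ∈ o' ∧ q ∈ o'

theorem Rel.map {z a : Equiv.Perm GolayPt} (ha : a ∈ M24) (haz : a * z = z * a) {p q : GolayPt}
    (h : Rel z p q) : Rel z (a p) (a q) := by
  obtain ⟨o, ho, o', ho', hne, hzo, hzo', h1, h2, h3, h4⟩ := h
  refine ⟨a • o, smul_mem_octads ha ho, a • o', smul_mem_octads ha ho',
    fun e => hne (MulAction.injective a e), ?_, ?_, Finset.mem_smul_finset.mpr ⟨p, h1, rfl⟩,
    Finset.mem_smul_finset.mpr ⟨q, h2, rfl⟩, Finset.mem_smul_finset.mpr ⟨p, h3, rfl⟩,
    Finset.mem_smul_finset.mpr ⟨q, h4, rfl⟩⟩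
  · rw [smul_smul, ← haz, mul_smul, hzo]
  · rw [smul_smul, ← haz, mul_smul, hzo']

theorem okCode_z0 : okCode z0 = true := by
  have h := z0_ok
  simp only [Bool.and_eq_true] at h
  exact okCode_of_inM24 h.1.1

theorem rel_iff (p q : GolayPt) : Rel (gperm z0) p q ↔ blk (idx p) = blk (idx q) := by
  have hb := List.all_eq_true.mp (List.all_eq_true.mp blocks_ok _ (List.mem_range.mpr (idx_lt p))) _
    (List.mem_range.mpr (idx_lt q))
  rw [beq_iff_eq, Bool.eq_iff_iff, Nat.beq_eq] at hb
  rw [hb]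
  simp only [List.any_eq_true, Bool.and_eq_true, Bool.not_eq_true']
  have hlist : ∀ o ∈ octads, gperm z0 • o = o → ∃ m ∈ invOcts, setOfMask m = o := by
    intro o ho hzo
    obtain ⟨k, hk, rfl⟩ := mem_supports_iff.mp ho.1
    have h := List.all_eq_true.mp invOcts_complete k (List.mem_range.mpr hk)
    rw [forceNat_eq] at h
    simp only [Bool.or_eq_true, Bool.not_eq_true', List.any_eq_true, Nat.beq_eq] at h
    rcases h with (h | h) | ⟨m, hm, rfl⟩
    · have h8 := ho.2
      rw [card_setOfMask] at h8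
      rw [h8] at h
      simp at h
    · rw [mask_eq_of_smul_eq okCode_z0 (enc_lt hk) hzo] at h
      simp at h
    · exact ⟨_, hm, rfl⟩
  have hspec : ∀ m ∈ invOcts, setOfMask m ∈ octads ∧ gperm z0 • setOfMask m = setOfMask m ∧
      m < 2 ^ 24 := by
    intro m hm
    have h := List.all_eq_true.mp invOcts_ok m hm
    simp only [Bool.and_eq_true, Nat.beq_eq] at h
    refine ⟨⟨setOfMask_mem_supports h.1.1, by rw [card_setOfMask, h.1.2]⟩,
      by rw [smul_setOfMask okCode_z0, h.2], ?_⟩
    obtain ⟨k, hk, rfl⟩ := inCode_iff.mp h.1.1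
    exact enc_lt hk
  constructor
  · rintro ⟨o, ho, o', ho', hne, hzo, hzo', h1, h2, h3, h4⟩
    obtain ⟨a, ha, rfl⟩ := hlist o ho hzo
    obtain ⟨b, hb', rfl⟩ := hlist o' ho' hzo'
    refine ⟨a, ha, b, hb', ⟨⟨⟨?_, mem_setOfMask.mp h1⟩, mem_setOfMask.mp h2⟩,
      mem_setOfMask.mp h3⟩, mem_setOfMask.mp h4⟩
    rw [← Bool.not_eq_true, Nat.beq_eq]
    rintro rfl
    exact hne rfl
  · rintro ⟨a, ha, b, hb', ⟨⟨⟨hne, h1⟩, h2⟩, h3⟩, h4⟩
    rw [← Bool.not_eq_true, Nat.beq_eq] at hne
    exact ⟨_, (hspec a ha).1, _, (hspec b hb').1,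
      fun e => hne (setOfMask_injOn (hspec a ha).2.2 (hspec b hb').2.2 e),
      (hspec a ha).2.1, (hspec b hb').2.1, mem_setOfMask.mpr h1, mem_setOfMask.mpr h2,
      mem_setOfMask.mpr h3, mem_setOfMask.mpr h4⟩

/-- The kernel on the blocks in the centraliser. -/
noncomputable def blockKernel : Subgroup (Equiv.Perm GolayPt) where
  carrier := {a | a ∈ M24 ∧ a * gperm z0 = gperm z0 * a ∧ ∀ p, blk (idx (a p)) = blk (idx p)}
  mul_mem' := by
    rintro a b ⟨ha, hac, hab⟩ ⟨hb, hbc, hbb⟩
    exact ⟨mul_mem ha hb, Commute.mul_left hac hbc,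
      fun p => by rw [Equiv.Perm.mul_apply, hab, hbb]⟩
  one_mem' := ⟨one_mem _, by simp, fun p => by simp⟩
  inv_mem' := by
    rintro a ⟨ha, hac, hab⟩
    refine ⟨inv_mem ha, Commute.inv_left hac, fun p => ?_⟩
    conv_rhs => rw [← a.apply_symm_apply p]
    exact (hab _).symm

theorem z0_apply (p : GolayPt) :
    gperm z0 p ≠ p ∧ blk (idx (gperm z0 p)) = blk (idx p) ∧ gperm z0 (gperm z0 p) = p := by
  have h := z0_ok
  simp only [Bool.and_eq_true, List.all_eq_true, List.mem_range, Bool.not_eq_true', Nat.beq_eq] at h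
  obtain ⟨⟨-, hsq⟩, hall⟩ := h
  obtain ⟨h1, h2⟩ := hall _ (idx_lt p)
  refine ⟨fun e => ?_, by rw [idx_gperm okCode_z0]; exact h2, ?_⟩
  · have := congrArg idx e
    rw [idx_gperm okCode_z0] at this
    rw [this] at h1
    simp at h1
  · rw [← Equiv.Perm.mul_apply, ← gperm_mul okCode_z0 okCode_z0, hsq, gperm_oneCode]
    rfl

theorem pow_four_eq_one {a : Equiv.Perm GolayPt} (ha : a ∈ blockKernel) : a ^ 4 = 1 := by
  obtain ⟨-, hac, hab⟩ := ha
  set z := gperm z0
  have hc : ∀ p, a (z p) = z (a p) := fun p => by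
    rw [← Equiv.Perm.mul_apply, ← Equiv.Perm.mul_apply, hac]
  -- a point, its partner, and their images stay in a set of four points
  have key : ∀ p, a (a p) = p ∨ a (a p) = z p := by
    intro p
    by_contra hno
    push Not at hno
    obtain ⟨n1, n2⟩ := hno
    have hp1 : a p ≠ p := fun e => n1 (by rw [e, e])
    have hp2 : a p ≠ z p := fun e => n1 (by rw [e, hc, e, (z0_apply p).2.2])
    let l : List GolayPt := [p, z p, a p, z (a p), a (a p)]
    have hnd : l.Nodup := by
      have hzz := fun r => (z0_apply r).1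
      have hi := z.injective
      have hinv := fun r => (z0_apply r).2.2
      simp only [l, List.nodup_cons, List.mem_cons, List.not_mem_nil, or_false, not_or,
        List.nodup_nil, and_true, not_false_eq_true]
      refine ⟨⟨(hzz p).symm, hp1.symm, fun e => hp2 ?_, n1.symm⟩, ⟨hp2.symm, fun e => hp1 (hi e).symm,
        n2.symm⟩, ⟨(hzz _).symm, fun e => hp1 (a.injective e).symm⟩, fun e => hp2 ?_⟩
      · conv_rhs => rw [e]
        exact (hinv _).symm
      · rw [← hc] at e
        exact (a.injective e).symm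
    have hsub : ∀ r ∈ l.map idx, r ∈ (List.range 24).filter fun j => Nat.beq (blk (idx p)) (blk j) := by
      intro j hj
      obtain ⟨r, hr, rfl⟩ := List.mem_map.mp hj
      refine List.mem_filter.mpr ⟨List.mem_range.mpr (idx_lt r), Nat.beq_eq.mpr ?_⟩
      replace hr : r ∈ [p, z p, a p, z (a p), a (a p)] := hr
      simp only [List.mem_cons, List.not_mem_nil, or_false] at hr
      rcases hr with rfl | rfl | rfl | rfl | rfl
      · rfl
      · exact (z0_apply p).2.1.symm
      · exact (hab p).symm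
      · rw [(z0_apply _).2.1, hab]
      · rw [hab, hab]
    have h5 := List.Subperm.length_le ((hnd.map idx_injective).subperm hsub)
    have h4 := List.all_eq_true.mp blocks_four _ (List.mem_range.mpr (idx_lt p))
    rw [Nat.beq_eq, List.countP_eq_length_filter] at h4
    rw [h4, List.length_map] at h5
    simp [l] at h5
  refine Equiv.ext fun p => ?_
  show a (a (a (a p))) = p
  rcases key p with h | h
  · rw [h, h]
  · rw [h, hc, hc, h, (z0_apply p).2.2]

theorem local_z0 : Local (gperm z0) := by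
  refine ⟨blockKernel, fun a ha => ha.1, fun q => ⟨2, Subtype.ext ?_⟩, fun q hq => hq.2.1,
    fun a ha haz q hq => ?_, fun a ha haz hall => ?_⟩
  · rw [Subgroup.coe_pow, Subgroup.coe_one]
    exact pow_four_eq_one q.2
  · refine ⟨mul_mem (mul_mem ha hq.1) (inv_mem ha),
      Commute.mul_left (Commute.mul_left haz hq.2.1) (Commute.inv_left haz), fun p => ?_⟩
    have h1 : Rel (gperm z0) (q (a⁻¹ p)) (a⁻¹ p) := (rel_iff _ _).mpr (hq.2.2 _)
    have h2 := (rel_iff _ _).mp (h1.map ha haz)
    rw [Equiv.Perm.mul_apply, Equiv.Perm.mul_apply, h2, show a (a⁻¹ p) = p from a.apply_symm_apply p]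
  · refine ⟨ha, haz, fun p => ?_⟩
    by_contra hne
    have h := List.all_eq_true.mp (List.all_eq_true.mp seps_separate _
      (List.mem_range.mpr (idx_lt p))) _ (List.mem_range.mpr (idx_lt (a p)))
    simp only [Bool.or_eq_true, Nat.beq_eq, List.any_eq_true, Bool.and_eq_true,
      Bool.not_eq_true'] at h
    rcases h with h | ⟨c, hc, hc1, hc2⟩
    · exact hne h.symm
    have hs := List.all_eq_true.mp seps_ok c hc
    simp only [Bool.and_eq_true, List.all_eq_true, List.mem_range, Nat.beq_eq] at hs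
    have hok := okCode_of_inM24 hs.1.1
    have hcq : gperm c ∈ blockKernel := by
      refine ⟨gperm_mem_M24 hs.1.1, ?_, fun r => ?_⟩
      · rw [← gperm_mul hok okCode_z0, ← gperm_mul okCode_z0 hok, hs.1.2]
      · rw [idx_gperm hok]; exact hs.2 _ (idx_lt r)
    have hfix : gperm c p = p := idx_injective (by rw [idx_gperm hok, hc1])
    have := congrArg (fun f : Equiv.Perm GolayPt => f p) (hall _ hcq)
    simp only [Equiv.Perm.mul_apply, hfix] at this
    rw [← Bool.not_eq_true, Nat.beq_eq] at hc2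
    exact hc2 (by rw [← idx_gperm hok, ← this])

/-- Every involution of M24 has the property. -/
theorem local_involution {z : M24} (hz : orderOf z = 2) : Local (z : Equiv.Perm GolayPt) := by
  haveI : Fact (Nat.Prime 2) := ⟨Nat.prime_two⟩
  have D := groupData_of_ok (H := M24) (inH := inM24) (fun _ h => gperm_mem_M24 h) groupOk24
  have hcard : Nat.card (genBy Cfsg.Agent.Lib.FusionAlperin.M24Data.gens) = 2 ^ 10 := by
    rw [D.card_eq, card_els]
  have hfac : (Nat.card M24).factorization 2 = 10 := by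
    rw [card_M24, show (244823040 : ℕ) = 2 ^ 10 * 239085 by norm_num,
      Nat.factorization_mul (by norm_num) (by norm_num), Finsupp.add_apply,
      Nat.Prime.factorization_pow Nat.prime_two, Finsupp.single_eq_same,
      Nat.factorization_eq_zero_of_not_dvd (by norm_num : ¬ 2 ∣ 239085)]
  obtain ⟨T, hT⟩ : ∃ T : Sylow 2 M24, (T : Subgroup M24) =
      (genBy Cfsg.Agent.Lib.FusionAlperin.M24Data.gens).subgroupOf M24 := by
    refine ⟨Sylow.ofCard _ ?_, rfl⟩
    rw [hfac, ← hcard]
    exact Nat.card_congr (Subgroup.subgroupOfEquivOfLe D.le).toEquiv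
  obtain ⟨S, hS⟩ := (IsPGroup.of_card (p := 2) (n := 1)
    (by rw [Nat.card_zpowers, hz, pow_one]) : IsPGroup 2 (Subgroup.zpowers z)).exists_le_sylow
  obtain ⟨a, ha⟩ := MulAction.exists_smul_eq M24 S T
  have hmem : a * z * a⁻¹ ∈ (T : Subgroup M24) := by
    rw [← ha, Sylow.coe_subgroup_smul]
    exact ⟨z, hS (Subgroup.mem_zpowers z), rfl⟩
  rw [hT, Subgroup.mem_subgroupOf] at hmem
  obtain ⟨c, hc, he⟩ := D.exists_code hmem
  have hok := (D.ok c hc).1
  have hcM : gperm c ∈ M24 := he ▸ (a * z * a⁻¹).2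
  suffices hL : Local (gperm c) by
    have h2 := hL.conj (inv_mem a.2)
    rw [he] at h2
    convert h2 using 1
    simp [mul_assoc]
  have hne : gperm c ≠ 1 := by
    rw [he]
    intro h
    have h1 : (a * z * a⁻¹ : M24) = 1 := Subtype.ext h
    rw [conj_eq_one_iff] at h1
    rw [h1, orderOf_one] at hz
    exact absurd hz (by norm_num)
  have hsq : gperm c * gperm c = 1 := by
    rw [he, ← Subgroup.coe_mul]
    have h1 : z * z = 1 := by rw [← pow_two, ← hz, pow_orderOf_eq_one]
    rw [show a * z * a⁻¹ * (a * z * a⁻¹) = a * (z * z) * a⁻¹ by group, h1]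
    simp
  have h := List.all_eq_true.mp involutions_cases c hc
  simp only [Bool.or_eq_true, Bool.and_eq_true, Bool.not_eq_true', Nat.beq_eq,
    List.any_eq_true] at h
  rcases h with ((h | h) | h) | ⟨e, he', hec⟩
  · exact absurd (h ▸ gperm_oneCode) hne
  · exfalso
    have := D.eq_of_mem_mul hc hc D.oneMem (by rw [hsq, gperm_oneCode])
    rw [← Bool.not_eq_true, Nat.beq_eq] at h
    apply h
    rw [← this]
    unfold canon mulP
    simp only [forceNat_eq]
    exact packW_congr fun i hi => (getW_packW (w := 5) (f := fun x => getW 5 c (getW 5 c x))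
      (fun x _ => by rw [getW_eq]; exact Nat.mod_lt _ (Nat.two_pow_pos 5)) hi).symm
  · refine local_fix hcM ?_
    have hset : setOfMask (fixMask c) = fixSet (gperm c) := by
      ext p
      rw [mem_setOfMask, mem_fixMask hok, mem_fixSet]
    rw [← hset]
    exact ⟨setOfMask_mem_supports h.1, by rw [card_setOfMask, h.2]⟩
  · have hw := List.all_eq_true.mp witnesses_ok e he'
    simp only [Bool.and_eq_true, Nat.beq_eq] at hw
    subst hec
    have hwok := okCode_of_inM24 hw.1.1
    have e2 : gperm e.1 = gperm e.2 * gperm z0 * (gperm e.2)⁻¹ := by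
      rw [← gperm_mul hwok okCode_z0, hw.2, gperm_mul hok hwok, mul_inv_cancel_right]
    rw [e2]
    exact local_z0.conj (gperm_mem_M24 hw.1.1)

/-- The form used by the block criterion. -/
theorem local24 (z : M24) (hz : orderOf z = 2) : ∃ Q : Subgroup M24, IsPGroup 2 Q ∧
    Q ≤ Subgroup.centralizer ({z} : Set M24) ∧
    Subgroup.centralizer ({z} : Set M24) ≤ Subgroup.normalizer (Q : Set M24) ∧
    IsPGroup 2 ↥(Subgroup.centralizer ({z} : Set M24) ⊓ Subgroup.centralizer (Q : Set M24)) := by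
  obtain ⟨Q, hQM, hQp, hQc, hQn, hQs⟩ := local_involution hz
  have hval : ∀ {a : M24}, a ∈ Subgroup.centralizer ({z} : Set M24) →
      (a : Equiv.Perm GolayPt) * z = (z : Equiv.Perm GolayPt) * a := fun {a} ha =>
    congrArg Subtype.val (Subgroup.mem_centralizer_singleton_iff.mp ha)
  have hp : IsPGroup 2 (Q.subgroupOf M24) := hQp.comap_of_injective M24.subtype M24.subtype_injective
  refine ⟨Q.subgroupOf M24, hp, fun q hq => Subgroup.mem_centralizer_singleton_iff.mpr
    (Subtype.ext (hQc _ (Subgroup.mem_subgroupOf.mp hq))), fun a ha => ?_, hp.to_le fun a ha => ?_⟩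
  · rw [Subgroup.mem_normalizer_iff]
    intro q
    simp only [Subgroup.mem_subgroupOf, Subgroup.coe_mul, Subgroup.coe_inv]
    refine ⟨fun h => hQn _ a.2 (hval ha) _ h, fun h => ?_⟩
    have h' := hQn _ (inv_mem a.2) (Commute.inv_left (hval ha)) _ h
    simpa [mul_assoc] using h'
  · refine Subgroup.mem_subgroupOf.mpr (hQs _ a.2 (hval ha.1) fun q hq => ?_)
    exact (congrArg Subtype.val (Subgroup.mem_centralizer_iff.mp ha.2 ⟨q, hQM hq⟩
      (Subgroup.mem_subgroupOf.mpr hq))).symm

end Cfsg.Agent.Lib.MathieuBlocks.M24Local
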